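import Groth.Agent.EqThickLib.Tools
import Groth.Agent.Comodule.OrbitFlat
import Groth.Agent.EtInvLib.Main
import Mathlib

/-!
# The ambient ring of a normal bundle of an orbit: translations, point derivations, polynomials over the group
-/

set_option autoImplicit false
set_option backward.isDefEq.respectTransparency false
set_option backward.isDefEq.respectTransparency.types false

noncomputable section

universe u

open TensorProduct WithConv

namespace Groth.Agent.LunaNhd

open Groth.Agent.Comodule Groth.Agent.EqZMT Groth.Agent.EtInv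

variable {k : Type u} [Field k] {A : Type u} [CommRing A] [HopfAlgebra k A]

instance isCoactAlg_regular : GLin.IsCoactAlg k A A where
  coact_one := map_one (Bialgebra.comulAlgHom k A)
  coact_mul := map_mul (Bialgebra.comulAlgHom k A)

theorem coact_regular' (a : A) :
    HopfRep.Comod.coact (k := k) (A := A) a = Coalgebra.comul (R := k) a := rfl

/-- Left translation. -/
abbrev lT (g : A →ₐ[k] k) : A →ₐ[k] A := GLin.orbitHom k A g

theorem counit_transl (g : A →ₐ[k] k) (a : A) :
    Coalgebra.counit (R := k) (transl k A g a) = g a := by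
  rw [transl_apply, coact_regular']
  have h := congrArg (fun z => g.toLinearMap (TensorProduct.lid k A z)) (Coalgebra.rTensor_counit_comul (R := k) a)
  simp only [TensorProduct.lid_tmul, one_smul] at h
  rw [show g a = g.toLinearMap a from rfl, ← h]
  induction Coalgebra.comul (R := k) a with
  | zero => simp
  | add p q hp hq => simp only [map_add, hp, hq]
  | tmul p q => simp [rcon, mul_comm]

theorem apply_transl (g h : A →ₐ[k] k) (a : A) :
    g (transl k A h a) = (toConv g * toConv h).ofConv a := by
  rw [← counit_transl g, transl_transl, counit_transl]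

theorem apply_lT (g h : A →ₐ[k] k) (a : A) : h (lT g a) = (toConv g * toConv h).ofConv a := by
  rw [AlgHom.convMul_apply]
  simp only [lT, GLin.orbitHom, AlgHom.comp_apply, GLin.coactAlgHom_apply, coact_regular']
  induction Coalgebra.comul (R := k) a with
  | zero => simp
  | add p q hp hq => simp only [map_add, hp, hq]
  | tmul p q => simp

theorem apply_dact (g : A →ₐ[k] k) (f : A →ₗ[k] k) (a : A) : g (dact f a) = f (lT g a) := by
  simp only [lT, GLin.orbitHom, AlgHom.comp_apply, GLin.coactAlgHom_apply, dact, LinearMap.comp_apply, coact_regular']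
  induction Coalgebra.comul (R := k) a with
  | zero => simp
  | add p q hp hq => simp only [map_add, hp, hq]
  | tmul p q => simp [rcon, mul_comm]

theorem counit_lT (g : A →ₐ[k] k) (a : A) : Bialgebra.counitAlgHom k A (lT g a) = g a := by
  rw [apply_lT]
  show (toConv g * toConv (Bialgebra.counitAlgHom k A)).ofConv a = _
  rw [show toConv (Bialgebra.counitAlgHom k A) = (1 : WithConv (A →ₐ[k] k)) from ?_, mul_one]
  ext b; simp [AlgHom.convOne_def]

/-- The kernel of a point. -/
abbrev mI (g : A →ₐ[k] k) : Ideal A := RingHom.ker g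

/-- A point derivation at the identity. -/
def IsPD (ξ : A →ₗ[k] k) : Prop :=
  ∀ a b, ξ (a * b) = ξ a * Coalgebra.counit (R := k) b + Coalgebra.counit (R := k) a * ξ b

theorem IsPD.algebraMap_eq {ξ : A →ₗ[k] k} (h : IsPD ξ) (c : k) : ξ (algebraMap k A c) = 0 := by
  have h1 := h 1 1
  simp only [mul_one, Bialgebra.counit_one, one_mul] at h1
  rw [Algebra.algebraMap_eq_smul_one, map_smul, show ξ 1 = 0 by linear_combination -h1, smul_zero]

section Alg

variable [IsAlgClosed k] [CharZero k] [Algebra.FiniteType k A]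

theorem eq_of_forall_pt {a b : A} (h : ∀ q : A →ₐ[k] k, q a = q b) : a = b := by
  haveI : IsReduced A := HopfGr.isReduced_charZero (k := k)
  by_contra hne
  obtain ⟨q, hq⟩ := PropAct.exists_pt_ne_zero (K := k) (sub_ne_zero.2 hne)
  exact hq (by rw [map_sub, h q, sub_self])

theorem inv_mul' (g : A →ₐ[k] k) : toConv (inv g) * toConv g = 1 := HopfFF.comp_antipode_left g

theorem mul_inv' (g : A →ₐ[k] k) : toConv g * toConv (inv g) = 1 := HopfFF.comp_antipode_right g

theorem lT_inv (g : A →ₐ[k] k) (a : A) : lT (inv g) (lT g a) = a := by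
  refine eq_of_forall_pt (k := k) fun q => ?_
  rw [apply_lT, apply_lT, toConv_ofConv, ← _root_.mul_assoc, mul_inv', one_mul]

theorem apply_lT_inv (g : A →ₐ[k] k) (a : A) : g (lT (inv g) a) = Coalgebra.counit (R := k) a := by
  rw [apply_lT, inv_mul']
  simp [AlgHom.convOne_def]

/-- The cotangent criterion: membership in the square of the ideal of a point. -/
theorem sub_mem_sq_iff (g : A →ₐ[k] k) (a : A) :
    a - algebraMap k A (g a) ∈ mI g ^ 2 ↔ ∀ ξ : A →ₗ[k] k, IsPD ξ → ξ (lT g a) = 0 := by
  constructor
  · intro h ξ hξ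
    suffices hs : ∀ c ∈ mI g ^ 2, ξ (lT g c) = 0 by
      have := hs _ h
      rwa [map_sub, map_sub, AlgHom.commutes, hξ.algebraMap_eq, sub_zero] at this
    intro c hc
    rw [pow_two] at hc
    refine Submodule.mul_induction_on hc (fun u hu v hv => ?_) fun u v hu hv => ?_
    ·
      have hu' : Coalgebra.counit (R := k) (lT g u) = 0 := by
        rw [← Bialgebra.counitAlgHom_apply, counit_lT]; exact hu
      have hv' : Coalgebra.counit (R := k) (lT g v) = 0 := by
        rw [← Bialgebra.counitAlgHom_apply, counit_lT]; exact hv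
      rw [map_mul, hξ, hu', hv', mul_zero, zero_mul, add_zero]
    · rw [map_add, map_add, hu, hv, add_zero]
  · intro h
    by_contra hn
    obtain ⟨θ, hθ, hθ0⟩ := Submodule.exists_dual_map_eq_bot_of_notMem
      (p := (mI g ^ 2).restrictScalars k) hn inferInstance
    have hθm : ∀ c ∈ mI g ^ 2, θ c = 0 := fun c hc =>
      (Submodule.mem_bot k).1 (hθ0 ▸ Submodule.mem_map_of_mem (f := θ) hc)
    let θ' : A →ₗ[k] k := θ ∘ₗ (LinearMap.id - (Algebra.linearMap k A) ∘ₗ g.toLinearMap)
    have hθ' : ∀ c, θ' c = θ (c - algebraMap k A (g c)) := fun c => rfl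
    have hmem : ∀ c, c - algebraMap k A (g c) ∈ mI g := fun c => by simp [RingHom.mem_ker]
    have hθmul : ∀ c d, θ' (c * d) = θ' c * g d + g c * θ' d := by
      intro c d
      have e : c * d - algebraMap k A (g (c * d)) = (c - algebraMap k A (g c)) * (d - algebraMap k A (g d)) +
          (g d • (c - algebraMap k A (g c)) + g c • (d - algebraMap k A (g d))) := by
        rw [map_mul, map_mul, Algebra.smul_def, Algebra.smul_def]; ring
      rw [hθ', e, map_add, map_add, map_smul, map_smul, hθm _ (by rw [pow_two]; exact Ideal.mul_mem_mul (hmem c) (hmem d)),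
        zero_add, hθ', hθ']
      simp [mul_comm]
    let ξ : A →ₗ[k] k := θ' ∘ₗ (lT (inv g)).toLinearMap
    have hξ : IsPD ξ := fun c d => by
      show θ' (lT (inv g) (c * d)) = _
      rw [map_mul, hθmul, apply_lT_inv, apply_lT_inv]
      rfl
    have := h ξ hξ
    rw [show ξ (lT g a) = θ' (lT (inv g) (lT g a)) from rfl, lT_inv, hθ'] at this
    exact hθ this

/-- Translations move the squares of the ideals of points. -/
theorem transl_mem_sq (g h : A →ₐ[k] k) {a : A} (ha : a ∈ mI (toConv g * toConv h).ofConv ^ 2) :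
    transl k A h a ∈ mI g ^ 2 := by
  have h1 : (mI (toConv g * toConv h).ofConv).map (transl (R := A) k A h).toRingHom ≤ mI g :=
    Ideal.map_le_iff_le_comap.2 fun c hc => by
      show g (transl k A h c) = 0
      rw [apply_transl]
      exact hc
  have h2 := Ideal.mem_map_of_mem (transl (R := A) k A h).toRingHom ha
  rw [Ideal.map_pow] at h2
  exact Ideal.pow_right_mono h1 2 h2

end Alg

/-! ### Polynomials over the group -/

section Poly

variable {ι : Type u} [HopfRep.Comod k A (MvPolynomial ι k)] [GLin.IsCoactAlg k A (MvPolynomial ι k)]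

variable (k A ι) in
/-- The inclusion of the polynomials over the field. -/
def inc : MvPolynomial ι k →ₐ[k] MvPolynomial ι A := MvPolynomial.aeval fun i => MvPolynomial.X i

variable (k A ι) in
/-- The constants. -/
abbrev cst : A →ₐ[k] MvPolynomial ι A := IsScalarTower.toAlgHom k A (MvPolynomial ι A)

omit [HopfRep.Comod k A (MvPolynomial ι k)] [GLin.IsCoactAlg k A (MvPolynomial ι k)] in
theorem cst_apply (a : A) : cst k A ι a = MvPolynomial.C a := rfl

omit [HopfRep.Comod k A (MvPolynomial ι k)] [GLin.IsCoactAlg k A (MvPolynomial ι k)] in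
@[simp] theorem inc_X (i : ι) : inc k A ι (MvPolynomial.X i) = MvPolynomial.X i := by simp [inc]

variable (k A ι) in
/-- The coaction on polynomials over the group. -/
def coT : MvPolynomial ι A →ₐ[k] MvPolynomial ι A ⊗[k] A where
  toRingHom := MvPolynomial.eval₂Hom
    (((Algebra.TensorProduct.map (cst k A ι) (AlgHom.id k A)).comp (Bialgebra.comulAlgHom k A)).toRingHom)
    fun i => Algebra.TensorProduct.map (inc k A ι) (AlgHom.id k A)
      (HopfRep.Comod.coact (k := k) (A := A) (MvPolynomial.X i : MvPolynomial ι k))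
  commutes' c := by
    show MvPolynomial.eval₂Hom _ _ (algebraMap k (MvPolynomial ι A) c) = _
    rw [IsScalarTower.algebraMap_apply k A (MvPolynomial ι A), MvPolynomial.algebraMap_eq, MvPolynomial.eval₂Hom_C]
    exact AlgHom.commutes _ c

theorem coT_cst (a : A) : coT k A ι (cst k A ι a) =
    Algebra.TensorProduct.map (cst k A ι) (AlgHom.id k A) (Coalgebra.comul (R := k) a) := by
  show MvPolynomial.eval₂Hom _ _ (MvPolynomial.C a) = _
  rw [MvPolynomial.eval₂Hom_C]
  rfl

theorem coT_inc (s : MvPolynomial ι k) : coT k A ι (inc k A ι s) =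
    Algebra.TensorProduct.map (inc k A ι) (AlgHom.id k A) (HopfRep.Comod.coact (k := k) (A := A) s) := by
  have h : (coT k A ι).comp (inc k A ι) =
      (Algebra.TensorProduct.map (inc k A ι) (AlgHom.id k A)).comp (GLin.coactAlgHom k A (MvPolynomial ι k)) := by
    refine MvPolynomial.algHom_ext fun i => ?_
    simp only [AlgHom.comp_apply, inc_X, GLin.coactAlgHom_apply]
    exact MvPolynomial.eval₂Hom_X' _ _ i
  exact DFunLike.congr_fun h s

theorem coassoc_of_hom {P : Type u} [CommRing P] [Algebra k P] [HopfRep.Comod k A P]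
    (φ : P →ₐ[k] MvPolynomial ι A) (hφ : ∀ p, coT k A ι (φ p) =
      Algebra.TensorProduct.map φ (AlgHom.id k A) (HopfRep.Comod.coact (k := k) (A := A) p)) (p : P) :
    Algebra.TensorProduct.assoc k k k (MvPolynomial ι A) A A
        (Algebra.TensorProduct.map (coT k A ι) (AlgHom.id k A) (coT k A ι (φ p))) =
      Algebra.TensorProduct.map (AlgHom.id k _) (Bialgebra.comulAlgHom k A) (coT k A ι (φ p)) := by
  have q1 : ∀ z : P ⊗[k] A, Algebra.TensorProduct.assoc k k k (MvPolynomial ι A) A A
      (Algebra.TensorProduct.map (coT k A ι) (AlgHom.id k A) (Algebra.TensorProduct.map φ (AlgHom.id k A) z)) =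
      φ.toLinearMap.rTensor (A ⊗[k] A) (TensorProduct.assoc k P A A
        ((HopfRep.Comod.coact (k := k) (A := A) (V := P)).rTensor A z)) := by
    intro z
    induction z with
    | zero => simp
    | add p q hp hq => simp only [map_add, hp, hq]
    | tmul p q =>
      simp only [Algebra.TensorProduct.map_tmul, AlgHom.coe_id, id_eq, LinearMap.rTensor_tmul, hφ]
      induction HopfRep.Comod.coact (k := k) (A := A) p with
      | zero => simp
      | add r s hr hs => simp only [TensorProduct.add_tmul, map_add, hr, hs]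
      | tmul r s => simp
  have q2 : ∀ z : P ⊗[k] A, Algebra.TensorProduct.map (AlgHom.id k (MvPolynomial ι A))
        (Bialgebra.comulAlgHom k A) (Algebra.TensorProduct.map φ (AlgHom.id k A) z) =
      φ.toLinearMap.rTensor (A ⊗[k] A) ((Coalgebra.comul (R := k)).lTensor P z) := by
    intro z
    induction z with
    | zero => simp
    | add p q hp hq => simp only [map_add, hp, hq]
    | tmul p q => simp
  rw [hφ, q1, q2]
  exact congrArg _ (LinearMap.congr_fun (HopfRep.Comod.coassoc (k := k) (A := A) (V := P)) p)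

theorem counit_of_hom {P : Type u} [CommRing P] [Algebra k P] [HopfRep.Comod k A P]
    (φ : P →ₐ[k] MvPolynomial ι A) (hφ : ∀ p, coT k A ι (φ p) =
      Algebra.TensorProduct.map φ (AlgHom.id k A) (HopfRep.Comod.coact (k := k) (A := A) p)) (p : P) :
    Algebra.TensorProduct.map (AlgHom.id k _) (Bialgebra.counitAlgHom k A) (coT k A ι (φ p)) = φ p ⊗ₜ[k] (1 : k) := by
  have q : ∀ z : P ⊗[k] A, Algebra.TensorProduct.map (AlgHom.id k _) (Bialgebra.counitAlgHom k A)
      (Algebra.TensorProduct.map φ (AlgHom.id k A) z) =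
      φ.toLinearMap.rTensor k ((Coalgebra.counit (R := k)).lTensor P z) := by
    intro z
    induction z with
    | zero => simp
    | add p q hp hq => simp only [map_add, hp, hq]
    | tmul p q => simp
  rw [hφ, q]
  have hc := LinearMap.congr_fun (HopfRep.Comod.counit_comp (k := k) (A := A) (V := P)) p
  simp only [LinearMap.comp_apply] at hc
  rw [hc]
  simp

/-- Polynomials over the group as a comodule. -/
instance comodT : HopfRep.Comod k A (MvPolynomial ι A) where
  coact := (coT k A ι).toLinearMap
  coassoc := by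
    let e1 : MvPolynomial ι A →ₐ[k] MvPolynomial ι A ⊗[k] (A ⊗[k] A) :=
      (Algebra.TensorProduct.assoc k k k (MvPolynomial ι A) A A).toAlgHom.comp
        ((Algebra.TensorProduct.map (coT k A ι) (AlgHom.id k A)).comp (coT k A ι))
    let e2 : MvPolynomial ι A →ₐ[k] MvPolynomial ι A ⊗[k] (A ⊗[k] A) :=
      (Algebra.TensorProduct.map (AlgHom.id k _) (Bialgebra.comulAlgHom k A)).comp (coT k A ι)
    have h : e1 = e2 := by
      refine MvPolynomial.algHom_ext' (AlgHom.ext fun a => coassoc_of_hom (cst k A ι) coT_cst a) fun i => ?_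
      rw [← inc_X (k := k) (A := A) i]
      exact coassoc_of_hom (inc k A ι) coT_inc (MvPolynomial.X i)
    exact LinearMap.ext fun z => DFunLike.congr_fun h z
  counit_comp := by
    let e1 : MvPolynomial ι A →ₐ[k] MvPolynomial ι A ⊗[k] k :=
      (Algebra.TensorProduct.map (AlgHom.id k _) (Bialgebra.counitAlgHom k A)).comp (coT k A ι)
    have h : e1 = Algebra.TensorProduct.includeLeft := by
      refine MvPolynomial.algHom_ext' (AlgHom.ext fun a => counit_of_hom (cst k A ι) coT_cst a) fun i => ?_
      rw [← inc_X (k := k) (A := A) i]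
      exact counit_of_hom (inc k A ι) coT_inc (MvPolynomial.X i)
    exact LinearMap.ext fun z => DFunLike.congr_fun h z

instance isCoactAlgT : GLin.IsCoactAlg k A (MvPolynomial ι A) where
  coact_one := map_one (coT k A ι)
  coact_mul := map_mul (coT k A ι)

theorem transl_cst (h : A →ₐ[k] k) (a : A) :
    transl k A h (cst k A ι a) = cst k A ι (transl k A h a) :=
  EqThick.map_transl (cst k A ι) coT_cst h a

theorem transl_inc (h : A →ₐ[k] k) (s : MvPolynomial ι k) :
    transl k A h (inc k A ι s) = inc k A ι (transl k A h s) :=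
  EqThick.map_transl (inc k A ι) coT_inc h s

/-- Evaluation of the coefficients at a point. -/
def ev (g : A →ₐ[k] k) : MvPolynomial ι A →ₐ[k] MvPolynomial ι k := MvPolynomial.mapAlgHom g

omit [HopfRep.Comod k A (MvPolynomial ι k)] [GLin.IsCoactAlg k A (MvPolynomial ι k)] in
theorem ev_apply (g : A →ₐ[k] k) (ψ : MvPolynomial ι A) : ev g ψ = MvPolynomial.map (g : A →+* k) ψ := rfl

omit [HopfRep.Comod k A (MvPolynomial ι k)] [GLin.IsCoactAlg k A (MvPolynomial ι k)] in
@[simp] theorem ev_cst (g : A →ₐ[k] k) (a : A) : ev (ι := ι) g (cst k A ι a) = algebraMap k _ (g a) := by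
  simp [ev_apply, cst, MvPolynomial.algebraMap_eq]

omit [HopfRep.Comod k A (MvPolynomial ι k)] [GLin.IsCoactAlg k A (MvPolynomial ι k)] in
@[simp] theorem ev_inc (g : A →ₐ[k] k) (s : MvPolynomial ι k) : ev g (inc k A ι s) = s := by
  have h : (ev g).comp (inc k A ι) = AlgHom.id k _ :=
    MvPolynomial.algHom_ext fun i => by simp [ev_apply]
  exact DFunLike.congr_fun h s

theorem ev_transl (g h : A →ₐ[k] k) (ψ : MvPolynomial ι A) :
    ev g (transl k A h ψ) = transl k A h (ev (toConv g * toConv h).ofConv ψ) := by
  have e : (ev g).comp (transl (R := MvPolynomial ι A) k A h) =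
      (transl (R := MvPolynomial ι k) k A h).comp (ev (toConv g * toConv h).ofConv) := by
    refine MvPolynomial.algHom_ext' (AlgHom.ext fun a => ?_) fun i => ?_
    · show ev g (transl k A h (cst k A ι a)) = transl k A h (ev _ (cst k A ι a))
      rw [transl_cst, ev_cst, ev_cst, AlgHom.commutes, apply_transl]
    · rw [← inc_X (k := k) (A := A) i]
      simp only [AlgHom.comp_apply]
      rw [transl_inc, ev_inc, ev_inc]
  exact DFunLike.congr_fun e ψ

theorem ext_of_ev [IsAlgClosed k] [CharZero k] [Algebra.FiniteType k A] {ψ ψ' : MvPolynomial ι A}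
    (h : ∀ g : A →ₐ[k] k, ev g ψ = ev g ψ') : ψ = ψ' := by
  refine MvPolynomial.ext _ _ fun d => eq_of_forall_pt (k := k) fun q => ?_
  have := congrArg (MvPolynomial.coeff d) (h q)
  simpa [ev_apply, MvPolynomial.coeff_map] using this

end Poly

/-! ### The orbit morphism -/

section Orbit

variable [IsAlgClosed k] [IsDomain A] [Algebra.FiniteType k A]
variable {S : Type u} [CommRing S] [Algebra k S] [HopfRep.Comod k A S] [GLin.IsCoactAlg k A S]

theorem orbit_dact [Algebra.FiniteType k S] (x : S →ₐ[k] k) (f : A →ₗ[k] k) (s : S) :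
    GLin.orbitHom k A x (dact f s) = dact f (GLin.orbitHom k A x s) := by
  simp only [dact, LinearMap.comp_apply, coact_regular']
  rw [OrbitFlat.orbit_comul, rcon_rTensor]
  rfl

theorem orbit_transl [Algebra.FiniteType k S] (x : S →ₐ[k] k) (g : A →ₐ[k] k) (s : S) :
    transl k A g (GLin.orbitHom k A x s) = GLin.orbitHom k A x (transl k A g s) := by
  rw [transl_apply, transl_apply]
  exact (orbit_dact x g.toLinearMap s).symm

theorem orbit_equivariant [Algebra.FiniteType k S] (x : S →ₐ[k] k) (s : S) :
    HopfRep.Comod.coact (k := k) (A := A) (GLin.orbitHom k A x s) =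
      Algebra.TensorProduct.map (GLin.orbitHom k A x) (AlgHom.id k A)
        (HopfRep.Comod.coact (k := k) (A := A) s) := by
  rw [coact_regular', OrbitFlat.orbit_comul]
  induction HopfRep.Comod.coact (k := k) (A := A) s with
  | zero => simp
  | add p q hp hq => simp only [map_add, hp, hq]
  | tmul p q => simp

theorem pt_orbit (g : A →ₐ[k] k) (x : S →ₐ[k] k) (s : S) :
    g (GLin.orbitHom k A x s) = x (transl k A g s) := by
  rw [← actPt_apply]; rfl

end Orbit

end Groth.Agent.LunaNhd
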