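import Mathlib

/-!
# Differentials of a subalgebra are generically detected by derivations of the algebra
-/

set_option autoImplicit false
set_option backward.isDefEq.respectTransparency false
set_option backward.isDefEq.respectTransparency.types false

noncomputable section

universe u

open TensorProduct

namespace Groth.Agent.LunaNhd

variable {k : Type u} [Field k] [CharZero k] {A : Type u} [CommRing A] [IsDomain A] [Algebra k A]
  [Algebra.FiniteType k A]

/-- If every derivation of `A` kills a differential of a subalgebra, some nonzero element kills it. -/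
theorem exists_smul_eq_zero (O : Subalgebra k A) (η : Ω[O⁄k])
    (h : ∀ D : Derivation k A A, (D.compAlgebraMap O).liftKaehlerDifferential η = 0) :
    ∃ b : O, b ≠ 0 ∧ b • η = 0 := by
  classical
  let KO := FractionRing O
  let KA := FractionRing A
  have hinjKA : Function.Injective ((algebraMap A KA).comp O.val.toRingHom) :=
    (IsFractionRing.injective A KA).comp Subtype.val_injective
  letI algKOKA : Algebra KO KA := (IsFractionRing.lift (K := KO) hinjKA).toAlgebra
  haveI : IsScalarTower O KO KA := IsScalarTower.of_algebraMap_eq fun o => by
    rw [IsScalarTower.algebraMap_apply O A KA]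
    exact (IsFractionRing.lift_algebraMap hinjKA o).symm
  haveI : IsScalarTower k KO KA := IsScalarTower.of_algebraMap_eq fun r => by
    rw [IsScalarTower.algebraMap_apply k O KO, ← IsScalarTower.algebraMap_apply O KO KA,
      ← IsScalarTower.algebraMap_apply k O KA]
  haveI : CharZero KO := charZero_of_injective_algebraMap (algebraMap k KO).injective
  haveI : Algebra.EssFiniteType A KA := Algebra.EssFiniteType.of_isLocalization KA (nonZeroDivisors A)
  haveI : Algebra.EssFiniteType k KA := Algebra.EssFiniteType.comp k A KA
  haveI : Algebra.EssFiniteType KO KA := Algebra.EssFiniteType.of_comp k KO KA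
  haveI : Algebra.FormallySmooth KO KA := inferInstance
  have hinjB : Function.Injective (KaehlerDifferential.mapBaseChange k KO KA) := by
    haveI : Subsingleton (Algebra.H1Cotangent KO KA) := Algebra.FormallySmooth.subsingleton_h1Cotangent
    rw [injective_iff_map_eq_zero]
    intro z hz
    obtain ⟨y, rfl⟩ := (Algebra.H1Cotangent.exact_δ_mapBaseChange k KO KA z).mp hz
    rw [Subsingleton.elim y 0, map_zero]
  let mapO := KaehlerDifferential.map k k O KO
  let mapA := KaehlerDifferential.map k k O KA
  have hcomp : ∀ z : Ω[O⁄k], KaehlerDifferential.map k k KO KA (mapO z) = mapA z := by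
    intro z
    have hz : z ∈ Submodule.span O (Set.range (KaehlerDifferential.D k O)) := by
      rw [KaehlerDifferential.span_range_derivation]; trivial
    induction hz using Submodule.span_induction with
    | mem z hz =>
      obtain ⟨o, rfl⟩ := hz
      simp only [mapO, mapA, KaehlerDifferential.map_D, ← IsScalarTower.algebraMap_apply]
    | zero => simp
    | add p q _ _ hp hq => simp only [map_add, hp, hq]
    | smul r p _ hp =>
      rw [LinearMap.map_smul mapO, LinearMap.map_smul mapA, ← hp, ← algebraMap_smul KO r (mapO p),
        LinearMap.map_smul (KaehlerDifferential.map k k KO KA), algebraMap_smul]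
  have hA0 : mapA η = 0 := by
    refine (Module.forall_dual_apply_eq_zero_iff KA _).1 fun θ => ?_
    let Dv : Derivation k KA KA := θ.compDer (KaehlerDifferential.D k KA)
    obtain ⟨T, hT⟩ := Algebra.FiniteType.out (R := k) (A := A)
    obtain ⟨⟨d, hd⟩, hdT⟩ := IsLocalization.exist_integer_multiples_of_finset (nonZeroDivisors A)
      (T.image fun t => Dv (algebraMap A KA t))
    have hall : ∀ v : A, ∃ w : A, algebraMap A KA w = algebraMap A KA d * Dv (algebraMap A KA v) := by
      intro v
      have hv : v ∈ Algebra.adjoin k (T : Set A) := hT ▸ Algebra.mem_top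
      induction hv using Algebra.adjoin_induction with
      | mem t ht =>
        obtain ⟨w, hw⟩ := hdT _ (Finset.mem_image_of_mem _ ht)
        exact ⟨w, by rw [hw, Algebra.smul_def]⟩
      | algebraMap r => exact ⟨0, by rw [← IsScalarTower.algebraMap_apply, Derivation.map_algebraMap, mul_zero, map_zero]⟩
      | add p q _ _ hp hq =>
        obtain ⟨u, hu⟩ := hp
        obtain ⟨w, hw⟩ := hq
        exact ⟨u + w, by simp only [map_add, hu, hw, mul_add]⟩
      | mul p q _ _ hp hq =>
        obtain ⟨u, hu⟩ := hp
        obtain ⟨w, hw⟩ := hq
        exact ⟨p * w + q * u, by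
          simp only [map_add, map_mul, hu, hw, Derivation.leibniz, smul_eq_mul]
          ring⟩
    choose DA hDA using hall
    have hinjA := IsFractionRing.injective A KA
    have hd0 : algebraMap A KA d ≠ 0 := fun h => nonZeroDivisors.ne_zero hd (hinjA (by rw [h, map_zero]))
    have hDadd : ∀ p q, DA (p + q) = DA p + DA q := fun p q => hinjA (by simp only [hDA, map_add, mul_add])
    have hDsmul : ∀ (r : k) p, DA (r • p) = r • DA p := fun r p => hinjA (by
      have h1 : ∀ w : A, algebraMap A KA (r • w) = r • algebraMap A KA w := fun w =>
        map_smul (IsScalarTower.toAlgHom k A KA) r w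
      rw [hDA, h1, h1, hDA, Derivation.map_smul]
      exact mul_smul_comm r _ _)
    have hDmul : ∀ p q, DA (p * q) = p * DA q + q * DA p := fun p q => hinjA (by
      simp only [hDA, map_add, map_mul, Derivation.leibniz, smul_eq_mul, mul_add]; ring)
    let D : Derivation k A A :=
      Derivation.mk' { toFun := DA, map_add' := hDadd, map_smul' := hDsmul } fun p q => hDmul p q
    have key : ∀ z : Ω[O⁄k], algebraMap A KA ((D.compAlgebraMap O).liftKaehlerDifferential z) =
        algebraMap A KA d * θ (mapA z) := by
      intro z
      have hz : z ∈ Submodule.span O (Set.range (KaehlerDifferential.D k O)) := by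
        rw [KaehlerDifferential.span_range_derivation]; trivial
      induction hz using Submodule.span_induction with
      | mem z hz =>
        obtain ⟨o, rfl⟩ := hz
        rw [Derivation.liftKaehlerDifferential_comp_D]
        show algebraMap A KA (DA (o : A)) = _
        rw [hDA]
        simp only [mapA, KaehlerDifferential.map_D]
        rfl
      | zero => simp
      | add p q _ _ hp hq => simp only [map_add, hp, hq, mul_add]
      | smul r p _ hp =>
        rw [LinearMap.map_smul _ r p, LinearMap.map_smul mapA r p, ← algebraMap_smul KA r (mapA p),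
          LinearMap.map_smul θ, smul_eq_mul, Algebra.smul_def, map_mul,
          hp, ← IsScalarTower.algebraMap_apply]
        ring
    have h1 := key η
    rw [h D, map_zero] at h1
    exact (mul_eq_zero.1 h1.symm).resolve_left hd0
  have hη : mapO η = 0 := by
    have h1 : (1 : KA) ⊗ₜ[KO] mapO η = 0 := hinjB (by
      rw [map_zero, KaehlerDifferential.mapBaseChange_tmul, one_smul, hcomp, hA0])
    have hi : Function.Injective ((Algebra.linearMap KO KA).rTensor Ω[KO⁄k]) :=
      Module.Flat.rTensor_preserves_injective_linearMap _ (algebraMap KO KA).injective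
    have h2 : (1 : KO) ⊗ₜ[KO] mapO η = 0 := hi (by simpa using h1)
    simpa using congrArg (TensorProduct.lid KO Ω[KO⁄k]) h2
  obtain ⟨⟨b, hb⟩, hbη⟩ := (IsLocalizedModule.eq_zero_iff (nonZeroDivisors O) mapO).1 hη
  exact ⟨b, nonZeroDivisors.ne_zero hb, hbη⟩

end Groth.Agent.LunaNhd
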