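import Mathlib

/-!
# A Jacobian criterion for algebraic independence, and derivations on coefficients
-/

set_option autoImplicit false
set_option backward.isDefEq.respectTransparency false
set_option backward.isDefEq.respectTransparency.types false

noncomputable section

universe u

open TrivSqZeroExt

namespace Groth.Agent.LunaNhd

variable {k : Type u} [Field k] [CharZero k]

theorem aeval_injective_of_det {B : Type u} [CommRing B] [IsDomain B] [Algebra k B] {ι : Type u} [Fintype ι]
    [DecidableEq ι] (v : ι → B) (D : ι → Derivation k B B)
    (hdet : (Matrix.of fun i j => D j (v i)).det ≠ 0) :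
    Function.Injective (MvPolynomial.aeval v : MvPolynomial ι k →ₐ[k] B) := by
  classical
  set φ : MvPolynomial ι k →ₐ[k] B := MvPolynomial.aeval v with hφ
  have chain : ∀ (j : ι) (P : MvPolynomial ι k), D j (φ P) = ∑ i, φ (MvPolynomial.pderiv i P) * D j (v i) := by
    intro j P
    induction P using MvPolynomial.induction_on with
    | C a => simp [hφ]
    | add p q hp hq => simp only [map_add, hp, hq, add_mul, Finset.sum_add_distrib]
    | mul_X p n hp =>
      have hX : φ (MvPolynomial.X n) = v n := MvPolynomial.aeval_X v n
      rw [map_mul φ, Derivation.leibniz (D j), hp, hX, smul_eq_mul, smul_eq_mul]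
      simp only [Derivation.leibniz, smul_eq_mul, map_add, map_mul, hX, MvPolynomial.pderiv_X, add_mul,
        Finset.sum_add_distrib, Finset.mul_sum]
      congr 1
      · rw [Finset.sum_eq_single n (fun i _ h => by rw [Pi.single_eq_of_ne' h, map_zero, mul_zero, zero_mul])
          (fun h => absurd (Finset.mem_univ n) h), Pi.single_eq_same, map_one, mul_one]
      · exact Finset.sum_congr rfl fun i _ => by ring
  have hker : ∀ P, φ P = 0 → ∀ i, φ (MvPolynomial.pderiv i P) = 0 := by
    intro P hP i
    refine congrFun (Matrix.eq_zero_of_vecMul_eq_zero (v := fun i => φ (MvPolynomial.pderiv i P)) hdet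
      (funext fun j => ?_)) i
    show ∑ i, φ (MvPolynomial.pderiv i P) * D j (v i) = 0
    rw [← chain, hP, map_zero]
  have main : ∀ (n : ℕ) (P : MvPolynomial ι k),
      (∀ d : ι →₀ ℕ, n ≤ ∑ i, d i → MvPolynomial.coeff d P = 0) → φ P = 0 → P = 0 := by
    intro n
    induction n with
    | zero => exact fun P h _ => MvPolynomial.ext _ _ fun d => h d (Nat.zero_le _)
    | succ n ih =>
      intro P h hP
      have hd : ∀ i, MvPolynomial.pderiv i P = 0 := fun i => ih _ (fun d hd => by
        rw [MvPolynomial.coeff_pderiv, h (d + Finsupp.single i 1) (by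
          simp only [Finsupp.add_apply, Finset.sum_add_distrib]
          rw [Finset.sum_eq_single i (f := fun j => Finsupp.single i 1 j)
            (fun j _ hj => Finsupp.single_eq_of_ne hj) (fun hi => absurd (Finset.mem_univ i) hi),
            Finsupp.single_eq_same]
          omega), zero_mul]) (hker P hP i)
      have hC : P = MvPolynomial.C (MvPolynomial.coeff 0 P) := by
        refine MvPolynomial.ext _ _ fun d => ?_
        rw [MvPolynomial.coeff_C]
        split_ifs with hd0
        · rw [hd0]
        obtain ⟨i, hi⟩ : ∃ i, d i ≠ 0 := by
          by_contra hall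
          push Not at hall
          exact hd0 (Finsupp.ext fun i => (hall i).symm)
        have h1 := congrArg (MvPolynomial.coeff (d - Finsupp.single i 1)) (hd i)
        rw [MvPolynomial.coeff_pderiv, MvPolynomial.coeff_zero, tsub_add_cancel_of_le
          (Finsupp.single_le_iff.2 (Nat.one_le_iff_ne_zero.2 hi))] at h1
        exact (mul_eq_zero.1 h1).resolve_right (Nat.cast_add_one_ne_zero _)
      rw [hC, hφ, MvPolynomial.aeval_C, map_eq_zero] at hP
      rw [hC, hP, map_zero]
  refine (injective_iff_map_eq_zero φ).2 fun P hP => ?_
  refine main ((P.support.sup fun d => ∑ i, d i) + 1) P (fun d hd => ?_) hP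
  by_contra hne
  have := Finset.le_sup (f := fun d : ι →₀ ℕ => ∑ i, d i) (MvPolynomial.mem_support_iff.2 hne)
  omega

/-- A derivation of the coefficients acts on polynomials. -/
def coeffDer {A : Type u} [CommRing A] [Algebra k A] {ι : Type u} (D : Derivation k A A) :
    Derivation k (MvPolynomial ι A) (MvPolynomial ι A) :=
  let c : A →+* TrivSqZeroExt (MvPolynomial ι A) (MvPolynomial ι A) :=
    { toFun := fun a => inl (MvPolynomial.C a) + inr (MvPolynomial.C (D a))
      map_one' := by ext <;> simp
      map_mul' := fun a b => by
        ext1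
        · simp
        · simp [Derivation.leibniz]; ring
      map_zero' := by ext <;> simp
      map_add' := fun a b => by ext <;> simp }
  let φ : MvPolynomial ι A →+* TrivSqZeroExt (MvPolynomial ι A) (MvPolynomial ι A) :=
    MvPolynomial.eval₂Hom c fun i => inl (MvPolynomial.X i)
  have hfst : ∀ p, (φ p).fst = p := fun p => by
    induction p using MvPolynomial.induction_on with
    | C a => simp [φ, c]
    | add p q hp hq => simp [map_add, hp, hq]
    | mul_X p n hp => simp [φ, map_mul] at hp ⊢; rw [hp]
  Derivation.mk'
    { toFun := fun p => (φ p).snd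
      map_add' := fun p q => by simp
      map_smul' := fun r p => by
        have h : φ (algebraMap k (MvPolynomial ι A) r) = inl (algebraMap k (MvPolynomial ι A) r) := by
          rw [IsScalarTower.algebraMap_apply k A (MvPolynomial ι A), MvPolynomial.algebraMap_eq]
          simp [φ, c]
        rw [Algebra.smul_def, map_mul, h, snd_mul]
        simp only [snd_inl, fst_inl, smul_eq_mul, MulOpposite.smul_eq_mul_unop, MulOpposite.unop_op, zero_mul,
          add_zero, RingHom.id_apply]
        exact (Algebra.smul_def r _).symm }
    fun p q => by
      show (φ (p * q)).snd = p • (φ q).snd + q • (φ p).snd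
      rw [map_mul, snd_mul, hfst, hfst]
      simp only [smul_eq_mul, MulOpposite.smul_eq_mul_unop, MulOpposite.unop_op]
      ring

theorem coeffDer_C {A : Type u} [CommRing A] [Algebra k A] {ι : Type u} (D : Derivation k A A) (a : A) :
    coeffDer (ι := ι) D (MvPolynomial.C a) = MvPolynomial.C (D a) := by
  simp [coeffDer]

theorem coeffDer_X {A : Type u} [CommRing A] [Algebra k A] {ι : Type u} (D : Derivation k A A) (i : ι) :
    coeffDer D (MvPolynomial.X i) = 0 := by
  simp [coeffDer]

end Groth.Agent.LunaNhd
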