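import Groth.Agent.LunaNhdLib.Slice
import Mathlib

/-!
# The stabiliser is, up to conjugation, upper semicontinuous near a closed orbit
-/

set_option autoImplicit false
set_option backward.isDefEq.respectTransparency false
set_option backward.isDefEq.respectTransparency.types false

noncomputable section

universe u

open TensorProduct WithConv

namespace Groth.Agent.LunaNhd

open Groth.Agent.Comodule Groth.Agent.EqZMT Groth.Agent.EtInv

variable {k : Type u} [Field k] [IsAlgClosed k] [CharZero k] {A : Type u} [CommRing A] [IsDomain A]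
  [HopfAlgebra k A] [Algebra.FiniteType k A]

/-- A cartesian chart does not change stabilisers. -/
theorem stabIdeal_le_of_cartesian {S : Type u} [CommRing S] [Algebra k S] [HopfRep.Comod k A S]
    [GLin.IsCoactAlg k A S] {R : Type u} [CommRing R] [Algebra k R] [HopfRep.Comod k A R] [GLin.IsCoactAlg k A R]
    [Algebra S R] [IsScalarTower k S R] {S₀ : Type u} [CommRing S₀] [Algebra S₀ S] {R₀ : Type u} [CommRing R₀]
    [Algebra R₀ R] [Algebra S₀ R₀] [Algebra S₀ R] [IsScalarTower S₀ S R] [IsScalarTower S₀ R₀ R]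
    (hequiv : ∀ (g : A →ₐ[k] k) s, transl k A g (algebraMap S R s) = algebraMap S R (transl k A g s))
    (hR₀ : ∀ c : R₀, algebraMap R₀ R c ∈ GLin.invariants k A R) (G : R₀)
    (h6 : ∀ r : R, ∃ (n : ℕ) (z : S ⊗[S₀] R₀),
      Algebra.TensorProduct.productMap (IsScalarTower.toAlgHom S₀ S R) (IsScalarTower.toAlgHom S₀ R₀ R) z =
        algebraMap R₀ R G ^ n * r)
    (z : R →ₐ[k] k) (hG : z (algebraMap R₀ R G) ≠ 0) :
    GLin.stabIdeal k A z ≤ GLin.stabIdeal k A (z.comp (IsScalarTower.toAlgHom k S R)) := by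
  classical
  set w := z.comp (IsScalarTower.toAlgHom k S R) with hw
  have hc : ∀ c : R₀, GLin.orbitHom k A z (algebraMap R₀ R c) = algebraMap k A (z (algebraMap R₀ R c)) :=
    fun c => eq_of_forall_pt (k := k) fun g => by
      rw [pt_orbit, transl_invariant (hR₀ c), AlgHom.commutes]; rfl
  have hs : ∀ s : S, GLin.orbitHom k A z (algebraMap S R s) = GLin.orbitHom k A w s :=
    fun s => eq_of_forall_pt (k := k) fun g => by
      rw [pt_orbit, pt_orbit, hw, AlgHom.comp_apply, hequiv]; rfl
  refine Ideal.map_le_iff_le_comap.2 fun r hr => ?_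
  obtain ⟨n, q, hq⟩ := h6 r
  obtain ⟨T, rfl⟩ := TensorProduct.exists_finset q
  let s' : S := ∑ i ∈ T, algebraMap k S (z (algebraMap R₀ R i.2)) * i.1
  have h1 : GLin.orbitHom k A z (algebraMap R₀ R G ^ n * r) = GLin.orbitHom k A w s' := by
    rw [← hq]
    simp only [s', map_sum, Algebra.TensorProduct.productMap_apply_tmul, IsScalarTower.coe_toAlgHom', map_mul, hc, hs,
      AlgHom.commutes]
    exact Finset.sum_congr rfl fun i _ => mul_comm _ _
  have h2 : w s' = 0 := by
    have h : z (algebraMap R₀ R G ^ n * r) = 0 := by rw [map_mul, RingHom.mem_ker.1 hr, mul_zero]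
    rw [← h, ← hq]
    simp only [s', hw, map_sum, Algebra.TensorProduct.productMap_apply_tmul, IsScalarTower.coe_toAlgHom', map_mul,
      AlgHom.commutes, AlgHom.comp_apply]
    exact Finset.sum_congr rfl fun i _ => mul_comm _ _
  have h3 : GLin.orbitHom k A w s' ∈ GLin.stabIdeal k A w := Ideal.mem_map_of_mem _ h2
  rw [← h1, map_mul, map_pow, hc, ← map_pow] at h3
  have hu : IsUnit (algebraMap k A (z (algebraMap R₀ R G) ^ n)) :=
    (isUnit_iff_ne_zero.2 (pow_ne_zero n hG)).map _
  exact (Ideal.unit_mul_mem_iff_mem _ hu).1 h3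

/-- A criterion for being unramified at a rational point. -/
theorem isUnramifiedAt_point {S R : Type u} [CommRing S] [CommRing R] [Algebra k S] [Algebra k R]
    [Algebra S R] [IsScalarTower k S R] [Algebra.FiniteType S R] [Algebra.FiniteType k R]
    (z : R →ₐ[k] k) (q : Ideal R) [q.IsPrime] (hq : q = RingHom.ker z)
    (h : q ≤ (q.under S).map (algebraMap S R) ⊔ q ^ 2) : Algebra.IsUnramifiedAt S q := by
  let p := q.under S
  haveI : q.LiesOver p := ⟨rfl⟩
  letI := Localization.AtPrime.algebraOfLiesOver p q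
  haveI hqmax : q.IsMaximal := hq ▸ RingHom.ker_isMaximal_of_surjective z fun r => ⟨algebraMap k R r, z.commutes r⟩
  have hres : Function.Surjective (algebraMap k q.ResidueField) := by
    intro c
    obtain ⟨o, ho⟩ := (Ideal.bijective_algebraMap_quotient_residueField q).2 c
    obtain ⟨r, rfl⟩ := Ideal.Quotient.mk_surjective o
    refine ⟨z r, ?_⟩
    rw [← ho, IsScalarTower.algebraMap_apply k (R ⧸ q) q.ResidueField]
    congr 1
    exact (Ideal.Quotient.eq).2 (by simp [hq, RingHom.mem_ker])
  haveI : Algebra.IsSeparable p.ResidueField q.ResidueField := by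
    have hs : Function.Surjective (algebraMap p.ResidueField q.ResidueField) := fun c => by
      obtain ⟨r, rfl⟩ := hres c
      exact ⟨algebraMap k _ r, (IsScalarTower.algebraMap_apply k p.ResidueField q.ResidueField r).symm⟩
    haveI : Module.Finite p.ResidueField q.ResidueField :=
      Module.Finite.of_surjective (Algebra.linearMap p.ResidueField q.ResidueField) hs
    haveI : CharZero p.ResidueField := charZero_of_injective_algebraMap (algebraMap k p.ResidueField).injective
    infer_instance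
  haveI : IsNoetherianRing R := Algebra.FiniteType.isNoetherianRing k R
  haveI : IsNoetherianRing (Localization.AtPrime q) := IsLocalization.isNoetherianRing q.primeCompl _ inferInstance
  refine (Algebra.isUnramifiedAt_iff_map_eq S p q).2 ⟨inferInstance, le_antisymm ?_ ?_⟩
  · rw [← Localization.AtPrime.map_eq_maximalIdeal, Ideal.map_le_iff_le_comap]
    intro r hr
    rw [Ideal.mem_comap, IsScalarTower.algebraMap_apply S R (Localization.AtPrime q)]
    exact Ideal.mem_map_of_mem _ (show r ∈ q.comap (algebraMap S R) from hr)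
  · have h' := Ideal.map_mono (f := algebraMap R (Localization.AtPrime q)) h
    rw [Ideal.map_sup, Ideal.map_pow, Localization.AtPrime.map_eq_maximalIdeal, Ideal.map_map, pow_two] at h'
    exact Submodule.le_of_le_smul_of_le_jacobson_bot (IsNoetherian.noetherian _)
      (IsLocalRing.maximalIdeal_le_jacobson _) h'

set_option maxHeartbeats 1000000 in
/-- The neighbourhood, given the chart. -/
theorem exists_nhd_of_chart (hA : HopfRep.IsLinearlyReductive k A) {S R : Type u}
    [CommRing S] [Algebra k S] [Algebra.FiniteType k S] [HopfRep.Comod k A S] [GLin.IsCoactAlg k A S]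
    [CommRing R] [Algebra k R] [Algebra.FiniteType k R] [HopfRep.Comod k A R] [GLin.IsCoactAlg k A R]
    [Algebra S R] [IsScalarTower k S R]
    (hμeq : ∀ (g : A →ₐ[k] k) s, transl k A g (algebraMap S R s) = algebraMap S R (transl k A g s))
    (π : S →ₐ[k] R) (hπeq : ∀ (g : A →ₐ[k] k) s, transl k A g (π s) = π (transl k A g s))
    (x : S →ₐ[k] k) (hx : GLin.IsClosedOrbit k A x)
    (hπ : RingHom.ker (GLin.orbitHom k A x) ≤ RingHom.ker π)
    (z : R →ₐ[k] k) [(RingHom.ker z).IsPrime] [Algebra.IsEtaleAt S (RingHom.ker z)]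
    (hzμ : z.comp (IsScalarTower.toAlgHom k S R) = x)
    (hfix : ∀ g : A →ₐ[k] k, GLin.actPt k g x = x → GLin.actPt k g z = z) :
    ∃ f ∈ GLin.invariants k A S, x f ≠ 0 ∧ ∀ w : S →ₐ[k] k, w f ≠ 0 →
      ∃ g : A →ₐ[k] k, GLin.stabIdeal k A x ≤ GLin.stabIdeal k A (GLin.actPt k g w) := by
  classical
  have hequiv : Equivariant k A S R := fun s =>
    equivariant_of_transl (IsScalarTower.toAlgHom k S R) hμeq s
  let S₀ := GLin.invariants k A S
  let R₀ := GLin.invariants k A R
  let j : S₀ →ₐ[k] R₀ := ((IsScalarTower.toAlgHom k S R).comp S₀.val).codRestrict R₀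
    fun c => EtNhd.map_invariant hequiv c.2
  letI : Algebra S₀ R₀ := j.toRingHom.toAlgebra
  haveI : IsScalarTower S₀ R₀ R := IsScalarTower.of_algebraMap_eq fun _ => rfl
  obtain ⟨f, g, hfg, hsurj, -, -, -, -, h6⟩ := EtNhd.exists_saturated (S := S) (R := R) (S₀ := S₀) (R₀ := R₀)
    hA hequiv Subtype.val_injective (fun c => ⟨fun h => ⟨⟨c, h⟩, rfl⟩, fun ⟨r, h⟩ => h ▸ r.2⟩)
    Subtype.val_injective (fun c => ⟨fun h => ⟨⟨c, h⟩, rfl⟩, fun ⟨r, h⟩ => h ▸ r.2⟩) z
    (by rw [hzμ]; exact hx) (by rw [hzμ]; exact hfix)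
  refine ⟨(g : S), g.2, ?_, fun w hw => ?_⟩
  · intro h0
    refine hfg ?_
    rw [map_mul, map_mul, ← IsScalarTower.algebraMap_apply S₀ R₀ R]
    show _ * z (algebraMap S R (g : S)) = 0
    rw [show z (algebraMap S R (g : S)) = x (g : S) from DFunLike.congr_fun hzμ (g : S), h0, mul_zero]
  obtain ⟨Q, hQ, hfQ, hQw⟩ := hsurj (RingHom.ker w) (RingHom.ker_isPrime _) (fun h => hw h)
  haveI := hQ
  haveI : IsJacobsonRing R := isJacobsonRing_of_finiteType (A := k)
  have hjac : (algebraMap R₀ R (f * algebraMap S₀ R₀ g)) ∉ Q.jacobson := by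
    rwa [IsJacobsonRing.out inferInstance hQ.isRadical]
  rw [Ideal.jacobson, Ideal.mem_sInf] at hjac
  push Not at hjac
  obtain ⟨M, ⟨hQM, hM⟩, hfM⟩ := hjac
  obtain ⟨z', hz'⟩ := ClosedOrbit.exists_pt (k := k) hM.ne_top
  have hz'eq : RingHom.ker z' = M := (hM.eq_of_le (RingHom.ker_ne_top _) hz').symm
  have hwz : ∀ s, z' (algebraMap S R s) = w s := fun s => by
    have h1 : s - algebraMap k S (w s) ∈ RingHom.ker w := by simp [RingHom.mem_ker]
    rw [← hQw] at h1
    have h2 := RingHom.mem_ker.1 (hz' (hQM h1))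
    rw [map_sub, ← IsScalarTower.algebraMap_apply k S R, map_sub, AlgHom.commutes, sub_eq_zero] at h2
    exact h2
  have hle : GLin.InOrbitClosure k A x (z'.comp π) := fun s hs => by
    show z' (π s) = 0
    rw [RingHom.mem_ker.1 (hπ hs), map_zero]
  obtain ⟨g₁, hg₁⟩ := ClosedOrbit.exists_actPt_eq_of_isClosedOrbit hx hle
  refine ⟨inv g₁, ?_⟩
  set z'' := GLin.actPt k (inv g₁) z' with hz''
  have hπx : z''.comp π = x := AlgHom.ext fun s => by
    rw [AlgHom.comp_apply, hz'', actPt_apply, hπeq, ← AlgHom.comp_apply z' π, hg₁, actPt_apply, transl_transl_inv]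
  have hμw : z''.comp (IsScalarTower.toAlgHom k S R) = GLin.actPt k (inv g₁) w := AlgHom.ext fun s => by
    rw [AlgHom.comp_apply, hz'', actPt_apply, IsScalarTower.coe_toAlgHom', hμeq, actPt_apply, hwz]
  have h1 : GLin.stabIdeal k A x ≤ GLin.stabIdeal k A z'' := by
    rw [← hπx]; exact stabIdeal_comp_le π hπeq z''
  have hG'' : z'' (algebraMap R₀ R (f * algebraMap S₀ R₀ g)) ≠ 0 := by
    rw [hz'', actPt_apply, transl_invariant (show algebraMap R₀ R (f * algebraMap S₀ R₀ g) ∈ R₀ from
      (f * algebraMap S₀ R₀ g).2)]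
    intro h
    exact hfM (hz'eq ▸ h)
  have h2 := stabIdeal_le_of_cartesian (S := S) (S₀ := S₀) hμeq (fun c : R₀ => c.2)
    (f * algebraMap S₀ R₀ g) h6 z'' hG''
  rw [hμw] at h2
  exact h1.trans h2

theorem isIntegrallyClosed_mvPolynomial (ι : Type u) : IsIntegrallyClosed (MvPolynomial ι k) :=
  UniqueFactorizationMonoid.instIsIntegrallyClosed

variable {ι : Type u} [Fintype ι] [HopfRep.Comod k A (MvPolynomial ι k)] [GLin.IsCoactAlg k A (MvPolynomial ι k)]

/-- Etale at a rational point of a domain over a normal domain. -/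
theorem isEtaleAt_point {S R : Type u} [CommRing S] [IsDomain S] [IsIntegrallyClosed S] [CommRing R] [IsDomain R]
    [Algebra k S] [Algebra k R] [Algebra S R] [IsScalarTower k S R] [Algebra.FiniteType k R]
    (hinj : Function.Injective (algebraMap S R)) (z : R →ₐ[k] k) [(RingHom.ker z).IsPrime] (x : S →ₐ[k] k)
    (hzx : z.comp (IsScalarTower.toAlgHom k S R) = x)
    (h : RingHom.ker z ≤ (RingHom.ker x).map (algebraMap S R) ⊔ RingHom.ker z ^ 2) :
    Algebra.IsEtaleAt S (RingHom.ker z) := by
  haveI : Algebra.FiniteType S R := Algebra.FiniteType.of_restrictScalars_finiteType k S R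
  haveI : Algebra.IsUnramifiedAt S (RingHom.ker z) := by
    refine isUnramifiedAt_point z _ rfl ?_
    have hp : (RingHom.ker z).under S = RingHom.ker x := by
      ext s
      show z (algebraMap S R s) = 0 ↔ x s = 0
      rw [← hzx]
      rfl
    rwa [hp]
  exact FreeQuotEt.isEtaleAt_of_unramified_normal _ _ hinj _

omit [IsAlgClosed k] [CharZero k] [IsDomain A] [Algebra.FiniteType k A] in
theorem finiteType_NB (x : MvPolynomial ι k →ₐ[k] k) (e : ι → MvPolynomial ι A) :
    Algebra.FiniteType k (NB x e) := by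
  classical
  refine (Subalgebra.fg_iff_finiteType _).1
    ⟨(Finset.univ.image fun i => orbC x (MvPolynomial.X i)) ∪ Finset.univ.image e, ?_⟩
  rw [Finset.coe_union, Finset.coe_image, Finset.coe_image, Finset.coe_univ, Set.image_univ, Set.image_univ]

theorem mu_val_injective {x : MvPolynomial ι k →ₐ[k] k} (hlin : Linear k A ι) (e : ι → MvPolynomial ι A)
    (heL : ∀ i, e i ∈ L A x) (hid : ∀ ψ ∈ L A x, MvPolynomial.aeval e ψ = ψ)
    (μ : MvPolynomial ι k →ₐ[k] NB x e)
    (hμX : ∀ i, (μ (MvPolynomial.X i) : MvPolynomial ι A) = orbC x (MvPolynomial.X i) + e i) :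
    Function.Injective μ := by
  intro a b h
  have hv : (NB x e).val.comp μ = MvPolynomial.aeval (fun i => orbC x (MvPolynomial.X i) + e i) :=
    MvPolynomial.algHom_ext fun i => by rw [AlgHom.comp_apply, MvPolynomial.aeval_X]; exact hμX i
  refine mu_injective e hlin heL hid ?_
  rw [← hv]
  exact congrArg Subtype.val h

set_option maxHeartbeats 1000000 in
/-- The neighbourhood, given the comodule structure on the normal bundle. -/
theorem exists_nhd_NB (hA : HopfRep.IsLinearlyReductive k A) (hlin : Linear k A ι)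
    (x : MvPolynomial ι k →ₐ[k] k) (hx : GLin.IsClosedOrbit k A x) (e : ι → MvPolynomial ι A)
    (heL : ∀ i, e i ∈ L A x) (hid : ∀ ψ ∈ L A x, MvPolynomial.aeval e ψ = ψ)
    [HopfRep.Comod k A (NB x e)] [GLin.IsCoactAlg k A (NB x e)]
    (hval : ∀ (g : A →ₐ[k] k) (r : NB x e),
      ((transl k A g r : NB x e) : MvPolynomial ι A) = transl k A g (r : MvPolynomial ι A))
    (μ : MvPolynomial ι k →ₐ[k] NB x e)
    (hμX : ∀ i, (μ (MvPolynomial.X i) : MvPolynomial ι A) = orbC x (MvPolynomial.X i) + e i)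
    (hμ : ∀ s ∈ Lin k ι, (μ s : MvPolynomial ι A) = orbC x s + MvPolynomial.aeval e (inc k A ι s))
    (hμeq : ∀ (g : A →ₐ[k] k) s, transl k A g (μ s) = μ (transl k A g s))
    (π : MvPolynomial ι k →ₐ[k] NB x e) (hπ : ∀ s, (π s : MvPolynomial ι A) = orbC x s)
    (z : NB x e →ₐ[k] k) (hz : z = (z0 k A ι).comp (NB x e).val) (hzμ : z.comp μ = x) :
    ∃ f ∈ GLin.invariants k A (MvPolynomial ι k), x f ≠ 0 ∧ ∀ w : MvPolynomial ι k →ₐ[k] k, w f ≠ 0 →
      ∃ g : A →ₐ[k] k, GLin.stabIdeal k A x ≤ GLin.stabIdeal k A (GLin.actPt k g w) := by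
  have hπeq : ∀ (g : A →ₐ[k] k) s, transl k A g (π s) = π (transl k A g s) := fun g s =>
    Subtype.ext (by rw [hval, hπ, hπ]; exact transl_orbC g s)
  letI algSR : Algebra (MvPolynomial ι k) (NB x e) := μ.toRingHom.toAlgebra
  haveI : IsScalarTower k (MvPolynomial ι k) (NB x e) := IsScalarTower.of_algebraMap_eq fun r => (μ.commutes r).symm
  haveI : (RingHom.ker z).IsPrime := RingHom.ker_isPrime _
  haveI : Algebra.FiniteType k (NB x e) := finiteType_NB x e
  haveI := isIntegrallyClosed_mvPolynomial (k := k) ι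
  haveI : Algebra.IsEtaleAt (MvPolynomial ι k) (RingHom.ker z) :=
    isEtaleAt_point (R := NB x e) (mu_val_injective hlin e heL hid μ hμX) z x hzμ
      (cotangent_le e hlin heL hid μ hμ z hz)
  have hfix : ∀ g : A →ₐ[k] k, GLin.actPt k g x = x → GLin.actPt k g z = z := by
    intro g hg
    refine AlgHom.ext fun r => ?_
    rw [actPt_apply]
    obtain ⟨r, hr⟩ := r
    rw [hz]
    show z0 k A ι ((transl k A g (⟨r, hr⟩ : NB x e) : NB x e) : MvPolynomial ι A) = z0 k A ι r
    rw [hval]
    show z0 k A ι (transl k A g r) = z0 k A ι r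
    induction hr using Algebra.adjoin_induction with
    | mem w hw =>
      rcases hw with ⟨i, rfl⟩ | ⟨i, rfl⟩
      · show z0 k A ι (transl k A g (orbC x (MvPolynomial.X i))) = z0 k A ι (orbC x (MvPolynomial.X i))
        rw [transl_orbC, AlgHom.comp_apply, AlgHom.comp_apply, z0_cst, z0_cst, eps_orb, eps_orb, ← actPt_apply, hg]
      · rw [z0_MO ((mem_L x).1 (heL i)).1, z0_MO ((mem_L x).1 (transl_mem_L x hlin g (heL i))).1]
    | algebraMap c => rw [AlgHom.commutes]
    | add p q _ _ hp hq => rw [map_add, map_add, map_add, hp, hq]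
    | mul p q _ _ hp hq => rw [map_mul, map_mul, map_mul, hp, hq]
  exact exists_nhd_of_chart hA (S := MvPolynomial ι k) (R := NB x e) hμeq π hπeq x hx
    (fun s hs => RingHom.mem_ker.2 (Subtype.ext (by
      rw [hπ, AlgHom.comp_apply, RingHom.mem_ker.1 hs, map_zero]; rfl))) z hzμ hfix

set_option maxHeartbeats 1000000 in
/-- The neighbourhood in the linear case. -/
theorem exists_nhd_linear (hA : HopfRep.IsLinearlyReductive k A) (hlin : Linear k A ι)
    (x : MvPolynomial ι k →ₐ[k] k) (hx : GLin.IsClosedOrbit k A x) :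
    ∃ f ∈ GLin.invariants k A (MvPolynomial ι k), x f ≠ 0 ∧ ∀ w : MvPolynomial ι k →ₐ[k] k, w f ≠ 0 →
      ∃ g : A →ₐ[k] k, GLin.stabIdeal k A x ≤ GLin.stabIdeal k A (GLin.actPt k g w) := by
  classical
  obtain ⟨e, heL, hid, heq⟩ := exists_projector hA hlin hx
  letI cN : HopfRep.Comod k A (NB x e) := subComod (Subalgebra.toSubmodule (NB x e)) (isSubcomod_NB e hlin heq)
  have hco : ∀ r : NB x e, Algebra.TensorProduct.map (NB x e).val (AlgHom.id k A)
      (HopfRep.Comod.coact (k := k) (A := A) r) = HopfRep.Comod.coact (k := k) (A := A) (r : MvPolynomial ι A) := fun r =>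
    (map_val_id_apply k A (NB x e) _).trans (rTensor_subCoact (Subalgebra.toSubmodule (NB x e)) _ r)
  haveI : GLin.IsCoactAlg k A (NB x e) :=
    { coact_one := map_val_id_injective k A (NB x e) (by
        rw [hco, map_one]; exact GLin.IsCoactAlg.coact_one (k := k) (A := A) (R := MvPolynomial ι A))
      coact_mul := fun f g => map_val_id_injective k A (NB x e) (by
        rw [hco, map_mul, hco, hco]
        exact GLin.IsCoactAlg.coact_mul (k := k) (A := A) (f : MvPolynomial ι A) g) }
  have hval : ∀ (g : A →ₐ[k] k) (r : NB x e),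
      ((transl k A g r : NB x e) : MvPolynomial ι A) = transl k A g (r : MvPolynomial ι A) := fun g r =>
    (EqThick.map_transl (NB x e).val (fun r => (hco r).symm) g r).symm
  let μ : MvPolynomial ι k →ₐ[k] NB x e := MvPolynomial.aeval fun i =>
    (⟨orbC x (MvPolynomial.X i) + e i,
      add_mem (Algebra.subset_adjoin (Or.inl ⟨i, rfl⟩)) (Algebra.subset_adjoin (Or.inr ⟨i, rfl⟩))⟩ : NB x e)
  have hμX : ∀ i, (μ (MvPolynomial.X i) : MvPolynomial ι A) = orbC x (MvPolynomial.X i) + e i := fun i => by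
    simp [μ]
  have hμ : ∀ s ∈ Lin k ι, (μ s : MvPolynomial ι A) = orbC x s + MvPolynomial.aeval e (inc k A ι s) := by
    intro s hs
    induction hs using Submodule.span_induction with
    | mem v hv => obtain ⟨i, rfl⟩ := hv; rw [hμX, inc_X, MvPolynomial.aeval_X]
    | zero => simp
    | add p q _ _ hp hq => simp only [map_add, Subalgebra.coe_add, hp, hq]; abel
    | smul r p _ hp =>
      rw [map_smul μ, map_smul (inc k A ι), Subalgebra.coe_smul, hp, map_smul (orbC x), smul_add]
      congr 1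
      exact (LinearMap.map_smul_of_tower (MvPolynomial.aeval e).toLinearMap r _).symm
  have hμeq : ∀ (g : A →ₐ[k] k) s, transl k A g (μ s) = μ (transl k A g s) := by
    intro g s
    have h : (transl (R := NB x e) k A g).comp μ = μ.comp (transl (R := MvPolynomial ι k) k A g) :=
      MvPolynomial.algHom_ext fun i => Subtype.ext (by
        have hX : (MvPolynomial.X i : MvPolynomial ι k) ∈ Lin k ι := Submodule.subset_span ⟨i, rfl⟩
        rw [AlgHom.comp_apply, AlgHom.comp_apply, hval, hμ _ hX, hμ _ (hlin g _ hX), map_add, transl_orbC, heq g _ hX])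
    exact DFunLike.congr_fun h s
  let z : NB x e →ₐ[k] k := (z0 k A ι).comp (NB x e).val
  have hzμ : z.comp μ = x := MvPolynomial.algHom_ext fun i => by
    have h0 : z0 k A ι (e i) = 0 := z0_MO ((mem_L x).1 (heL i)).1
    show z0 k A ι (μ (MvPolynomial.X i) : MvPolynomial ι A) = _
    rw [hμX, map_add, h0, add_zero, AlgHom.comp_apply, z0_cst, eps_orb]
  exact exists_nhd_NB hA hlin x hx e heL hid hval μ hμX hμ hμeq ((orbC x).codRestrict _ (orbC_mem e))
    (fun _ => rfl) z rfl hzμ

end Groth.Agent.LunaNhd
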