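import Groth.Agent.LunaNhdLib.Main
import Groth.Agent.Comodule.ChevalleyLocal
import Mathlib

/-!
# Reduction to a linear representation
-/

set_option autoImplicit false
set_option backward.isDefEq.respectTransparency false
set_option backward.isDefEq.respectTransparency.types false

noncomputable section

universe u

open TensorProduct WithConv

namespace Groth.Agent.LunaNhd

open Groth.Agent.Comodule Groth.Agent.EqZMT Groth.Agent.EtInv

variable {k : Type u} [Field k] [IsAlgClosed k] [CharZero k] {A : Type u} [CommRing A] [IsDomain A]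
  [HopfAlgebra k A] [Algebra.FiniteType k A]
variable {R : Type u} [CommRing R] [Algebra k R] [HopfRep.Comod k A R] [GLin.IsCoactAlg k A R]

/-- Passing along an equivariant closed embedding into a representation. -/
theorem exists_nhd_of_surjective (hA : HopfRep.IsLinearlyReductive k A) {ι : Type u} [Fintype ι]
    [HopfRep.Comod k A (MvPolynomial ι k)] [GLin.IsCoactAlg k A (MvPolynomial ι k)] (hlin : Linear k A ι)
    (π : MvPolynomial ι k →ₐ[k] R) (hπs : Function.Surjective π)
    (hπc : ∀ s, HopfRep.Comod.coact (k := k) (A := A) (π s) =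
      Algebra.TensorProduct.map π (AlgHom.id k A) (HopfRep.Comod.coact (k := k) (A := A) s))
    (x : R →ₐ[k] k) (hx : GLin.IsClosedOrbit k A x) :
    ∃ f ∈ GLin.invariants k A R, x f ≠ 0 ∧
      ∀ x' : R →ₐ[k] k, x' f ≠ 0 →
        ∃ g : A →ₐ[k] k, GLin.stabIdeal k A x ≤ GLin.stabIdeal k A (GLin.actPt k g x') := by
  have hπeq : ∀ (g : A →ₐ[k] k) (s : MvPolynomial ι k), transl k A g (π s) = π (transl k A g s) :=
    fun g s => EqThick.map_transl (A := A) π hπc g s
  have horb : ∀ (z : R →ₐ[k] k) s, GLin.orbitHom k A (z.comp π) s = GLin.orbitHom k A z (π s) :=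
    fun z s => eq_of_forall_pt (k := k) fun g =>
      (pt_orbit g (z.comp π) s).trans ((congrArg z (hπeq g s).symm).trans (pt_orbit g z (π s)).symm)
  have hcl : GLin.IsClosedOrbit k A (x.comp π) := by
    have e : (GLin.orbitHom k A (x.comp π)).toRingHom = (GLin.orbitHom k A x).toRingHom.comp π.toRingHom :=
      RingHom.ext fun s => horb x s
    show IsClosed _
    rw [e, PrimeSpectrum.comap_comp, Set.range_comp]
    exact (PrimeSpectrum.isClosedEmbedding_comap_of_surjective _ π.toRingHom hπs).isClosedMap _ hx
  obtain ⟨f, hf, hxf, hmain⟩ := exists_nhd_linear hA hlin (x.comp π) hcl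
  refine ⟨π f, ?_, hxf, fun x' hx' => ?_⟩
  · rw [GLin.mem_invariants_iff, hπc, (GLin.mem_invariants_iff k A _ f).1 hf, Algebra.TensorProduct.map_tmul]
    rfl
  obtain ⟨g, hg⟩ := hmain (x'.comp π) hx'
  refine ⟨g, ?_⟩
  have e : GLin.actPt k g (x'.comp π) = (GLin.actPt k g x').comp π := AlgHom.ext fun s => by
    rw [AlgHom.comp_apply, actPt_apply, actPt_apply, AlgHom.comp_apply, hπeq]
  have h1 : GLin.stabIdeal k A x ≤ GLin.stabIdeal k A (x.comp π) := by
    refine Ideal.map_le_iff_le_comap.2 fun r hr => ?_
    obtain ⟨s, rfl⟩ := hπs r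
    rw [Ideal.mem_comap, ← horb]
    exact Ideal.mem_map_of_mem _ hr
  rw [e] at hg
  exact h1.trans (hg.trans (stabIdeal_comp_le π hπeq _))

/-- Luna: near a closed orbit stabilisers are subconjugate to its stabiliser. -/
theorem exists_nhd (hA : HopfRep.IsLinearlyReductive k A) [Algebra.FiniteType k R] (x : R →ₐ[k] k)
    (hx : GLin.IsClosedOrbit k A x) :
    ∃ f ∈ GLin.invariants k A R, x f ≠ 0 ∧
      ∀ x' : R →ₐ[k] k, x' f ≠ 0 →
        ∃ g : A →ₐ[k] k, GLin.stabIdeal k A x ≤ GLin.stabIdeal k A (GLin.actPt k g x') := by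
  classical
  obtain ⟨T, hT⟩ := Algebra.FiniteType.out (R := k) (A := R)
  let W : Submodule k R := (Submodule.span (WithConv (A →ₗ[k] k)) (T : Set R)).restrictScalars k
  have hW : HopfRep.IsSubcomod (k := k) (A := A) W := isSubcomod_restrictScalars _
  haveI : Module.Finite k W := finite_span_of_finite T.finite_toSet
  letI : HopfRep.Comod k A W := subComod W hW
  let b := Module.Free.chooseBasis k W
  letI := ChevalleyLocal.symComod (A := A) b
  haveI := ChevalleyLocal.isCoactAlg_sym (A := A) b
  let π : MvPolynomial (Module.Free.ChooseBasisIndex k W) k →ₐ[k] R := MvPolynomial.aeval fun i => (b i : R)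
  have hπlin : ∀ v : W, π (ChevalleyLocal.linEmb b v) = (v : R) := by
    intro v
    have : π.toLinearMap ∘ₗ ChevalleyLocal.linEmb b = W.subtype := b.ext fun i => by simp [π]
    exact LinearMap.congr_fun this v
  have hπs : Function.Surjective π := by
    intro r
    have h : (⊤ : Subalgebra k R) ≤ π.range := by
      rw [← hT, Algebra.adjoin_le_iff]
      intro t ht
      exact ⟨ChevalleyLocal.linEmb b ⟨t, Submodule.subset_span ht⟩, hπlin _⟩
    exact h Algebra.mem_top
  have hπc : ∀ s, HopfRep.Comod.coact (k := k) (A := A) (π s) =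
      Algebra.TensorProduct.map π (AlgHom.id k A) (HopfRep.Comod.coact (k := k) (A := A) s) := by
    intro s
    have e : (GLin.coactAlgHom k A R).comp π = (Algebra.TensorProduct.map π (AlgHom.id k A)).comp
        (ChevalleyLocal.symCoact (A := A) b) := by
      refine MvPolynomial.algHom_ext fun i => ?_
      rw [AlgHom.comp_apply, AlgHom.comp_apply, ← ChevalleyLocal.linEmb_basis b i, hπlin,
        GLin.coactAlgHom_apply, ChevalleyLocal.symCoact_linEmb, ← rTensor_subCoact W hW (b i)]
      induction subCoact W hW (b i) with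
      | zero => simp
      | add p q hp hq => simp only [map_add, hp, hq]
      | tmul p q => simp [hπlin]
    exact DFunLike.congr_fun e s
  have hlin : Linear k A (Module.Free.ChooseBasisIndex k W) := by
    intro g s hs
    have hle : Lin k (Module.Free.ChooseBasisIndex k W) = LinearMap.range (ChevalleyLocal.linEmb b) := by
      rw [ChevalleyLocal.linEmb, Module.Basis.constr_range]
    rw [hle] at hs ⊢
    obtain ⟨v, rfl⟩ := hs
    refine ⟨dact g.toLinearMap v, ?_⟩
    rw [transl_apply]
    show _ = rcon g.toLinearMap (ChevalleyLocal.symCoact b (ChevalleyLocal.linEmb b v))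
    rw [ChevalleyLocal.symCoact_linEmb, rcon_rTensor]
    rfl
  exact exists_nhd_of_surjective hA hlin π hπs hπc x hx

end Groth.Agent.LunaNhd
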