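import Groth.Agent.LunaNhdLib.Tangent
import Groth.Agent.Comodule.ReynoldsOp
import Mathlib

/-!
# An equivariant projector onto the conormal bundle of an orbit
-/

set_option autoImplicit false
set_option backward.isDefEq.respectTransparency false
set_option backward.isDefEq.respectTransparency.types false

noncomputable section

universe u

open TensorProduct WithConv

namespace Groth.Agent.LunaNhd

open Groth.Agent.Comodule Groth.Agent.EqZMT Groth.Agent.EtInv

variable {k : Type u} [Field k] [IsAlgClosed k] [CharZero k] {A : Type u} [CommRing A] [IsDomain A]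
  [HopfAlgebra k A] [Algebra.FiniteType k A]

theorem rcon_mem {V : Type u} [AddCommGroup V] [Module k V] (P : Submodule k V) (z : V ⊗[k] A)
    (h : ∀ g : A →ₐ[k] k, rcon g.toLinearMap z ∈ P) (f : A →ₗ[k] k) : rcon f z ∈ P := by
  classical
  haveI : IsReduced A := HopfGr.isReduced_charZero (k := k)
  haveI : IsReduced (k ⊗[k] A) :=
    isReduced_of_injective (Algebra.TensorProduct.lid k A).toRingEquiv.toRingHom
      (Algebra.TensorProduct.lid k A).injective
  obtain ⟨κ, hκ, b, c, ψ, hz, -, hc⟩ := PropAct.exists_decomp z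
  let L : (κ → k) →ₗ[k] V := Fintype.linearCombination k b
  have hL : Submodule.span k (Set.range fun g : A →ₐ[k] k => fun i => g (c i)) ≤ P.comap L := by
    rw [Submodule.span_le]
    rintro _ ⟨g, rfl⟩
    show L _ ∈ P
    have := h g
    rw [hz, map_sum] at this
    simpa [L, Fintype.linearCombination_apply, rcon] using this
  rw [PropAct.span_values (k := k) (A := A) k hc] at hL
  have := hL (Submodule.mem_top (x := fun i => f (c i)))
  rw [hz, map_sum]
  simpa [L, Fintype.linearCombination_apply, rcon] using this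

theorem rcon_eq {V : Type u} [AddCommGroup V] [Module k V] {z z' : V ⊗[k] A}
    (h : ∀ g : A →ₐ[k] k, rcon g.toLinearMap z = rcon g.toLinearMap z') (f : A →ₗ[k] k) :
    rcon f z = rcon f z' := by
  have := rcon_mem (⊥ : Submodule k V) (z - z') (fun g => by simp [h g]) f
  rwa [Submodule.mem_bot, map_sub, sub_eq_zero] at this

theorem inv_conv_eq {g h : A →ₐ[k] k} {v : WithConv (A →ₐ[k] k)} (e : (toConv g * toConv h) * v = 1) :
    toConv (inv (toConv g * toConv h).ofConv) = v := by
  refine left_inv_eq_right_inv ?_ e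
  have := inv_mul' (toConv g * toConv h).ofConv
  rwa [toConv_ofConv] at this

variable {ι : Type u} [Fintype ι] [HopfRep.Comod k A (MvPolynomial ι k)] [GLin.IsCoactAlg k A (MvPolynomial ι k)]
variable (x : MvPolynomial ι k →ₐ[k] k)

variable (A) in
/-- Linear forms with coefficients in the coordinate ring of the orbit. -/
def lfO : (ι → O A x) →ₗ[k] MvPolynomial ι A :=
  ∑ i, (LinearMap.mulRight k (MvPolynomial.X i : MvPolynomial ι A)) ∘ₗ (cst k A ι).toLinearMap ∘ₗ
    (O A x).val.toLinearMap ∘ₗ LinearMap.proj i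

omit [IsAlgClosed k] [CharZero k] [IsDomain A] [Algebra.FiniteType k A] in
theorem lfO_apply (c : ι → O A x) :
    lfO A x c = ∑ i, cst k A ι (c i : A) * MvPolynomial.X i := by
  simp [lfO, LinearMap.sum_apply]

variable (A) in
/-- The module of linear forms over the orbit. -/
def MO : Submodule k (MvPolynomial ι A) := LinearMap.range (lfO A x)

variable (A) in
/-- The conormal module of the orbit. -/
def L : Submodule k (MvPolynomial ι A) :=
  MO A x ⊓ ⨅ g : A →ₐ[k] k, (K x g).comap (ev g).toLinearMap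

omit [IsAlgClosed k] [CharZero k] [IsDomain A] [Algebra.FiniteType k A] in
theorem mem_L {ψ : MvPolynomial ι A} : ψ ∈ L A x ↔ ψ ∈ MO A x ∧ ∀ g : A →ₐ[k] k, ev g ψ ∈ K x g := by
  simp [L, Submodule.mem_iInf]

omit [IsAlgClosed k] [CharZero k] [IsDomain A] [Algebra.FiniteType k A] in
theorem cst_mul_mem_MO {o : A} (ho : o ∈ O A x) {ψ : MvPolynomial ι A} (h : ψ ∈ MO A x) :
    cst k A ι o * ψ ∈ MO A x := by
  obtain ⟨c, rfl⟩ := h
  refine ⟨fun i => ⟨o, ho⟩ * c i, ?_⟩
  rw [lfO_apply, lfO_apply, Finset.mul_sum]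
  refine Finset.sum_congr rfl fun i _ => ?_
  rw [MulMemClass.coe_mul, map_mul, _root_.mul_assoc]

omit [IsAlgClosed k] [CharZero k] [IsDomain A] [Algebra.FiniteType k A] in
theorem inc_mem_MO {s : MvPolynomial ι k} (hs : s ∈ Lin k ι) : inc k A ι s ∈ MO A x := by
  classical
  induction hs using Submodule.span_induction with
  | mem v hv =>
    obtain ⟨j, rfl⟩ := hv
    refine ⟨Pi.single j 1, ?_⟩
    rw [lfO_apply, Finset.sum_eq_single j (fun i _ h => by rw [Pi.single_eq_of_ne h]; simp)
      (fun h => absurd (Finset.mem_univ j) h), Pi.single_eq_same, OneMemClass.coe_one, map_one, one_mul, inc_X]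
  | zero => simp
  | add p q _ _ hp hq => rw [map_add]; exact add_mem hp hq
  | smul r p _ hp => rw [map_smul]; exact Submodule.smul_mem _ r hp

omit [IsAlgClosed k] [CharZero k] [IsDomain A] [Algebra.FiniteType k A] in
theorem ev_cst_mul (g : A →ₐ[k] k) (a : A) (ψ : MvPolynomial ι A) :
    ev g (cst k A ι a * ψ) = g a • ev g ψ := by
  rw [map_mul, ev_cst, Algebra.smul_def]

omit [IsAlgClosed k] [CharZero k] [IsDomain A] [Algebra.FiniteType k A] in
theorem cst_mul_mem_L {o : A} (ho : o ∈ O A x) {ψ : MvPolynomial ι A} (h : ψ ∈ L A x) :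
    cst k A ι o * ψ ∈ L A x := by
  refine (mem_L x).2 ⟨cst_mul_mem_MO x ho ((mem_L x).1 h).1, fun g => ?_⟩
  rw [ev_cst_mul]
  exact Submodule.smul_mem _ _ (((mem_L x).1 h).2 g)

theorem transl_mem_O (g : A →ₐ[k] k) {o : A} (ho : o ∈ O A x) : transl k A g o ∈ O A x := by
  obtain ⟨t, rfl⟩ := ho
  exact ⟨transl k A g t, (orbit_transl x g t).symm⟩

theorem transl_mem_MO (hlin : Linear k A ι) (h : A →ₐ[k] k) {ψ : MvPolynomial ι A} (hψ : ψ ∈ MO A x) :
    transl k A h ψ ∈ MO A x := by
  obtain ⟨c, rfl⟩ := hψ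
  rw [lfO_apply, map_sum]
  refine sum_mem fun i _ => ?_
  rw [map_mul, transl_cst, ← inc_X (k := k) (A := A) i, transl_inc]
  exact cst_mul_mem_MO x (transl_mem_O x h (c i).2) (inc_mem_MO x (hlin h _ (Submodule.subset_span ⟨i, rfl⟩)))

theorem transl_mem_L (hlin : Linear k A ι) (h : A →ₐ[k] k) {ψ : MvPolynomial ι A} (hψ : ψ ∈ L A x) :
    transl k A h ψ ∈ L A x := by
  refine (mem_L x).2 ⟨transl_mem_MO x hlin h ((mem_L x).1 hψ).1, fun g => ?_⟩
  rw [ev_transl]
  exact transl_mem_K x hlin (((mem_L x).1 hψ).2 _)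

omit [IsAlgClosed k] [CharZero k] [IsDomain A] [Algebra.FiniteType k A] in
/-- Linear substitutions by elements of the conormal module. -/
theorem aeval_mem_L {F : ι → MvPolynomial ι A} (hF : ∀ i, F i ∈ L A x) {ψ : MvPolynomial ι A} (h : ψ ∈ MO A x) :
    MvPolynomial.aeval F ψ ∈ L A x := by
  obtain ⟨c, rfl⟩ := h
  rw [lfO_apply, map_sum]
  refine sum_mem fun i _ => ?_
  rw [map_mul, MvPolynomial.aeval_X]
  rw [show MvPolynomial.aeval F (cst k A ι (c i : A)) = cst k A ι (c i : A) from MvPolynomial.aeval_C _ _]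
  exact cst_mul_mem_L x (c i).2 (hF i)

variable {x}

theorem aE_mem (F : Frame (A := A) x) : aE F ∈ O A x := by
  classical
  rw [aE, Matrix.det_apply]
  exact sum_mem fun σ _ => zsmul_mem (prod_mem fun i _ => show Mmat F (σ i) i ∈ O A x from ⟨_, rfl⟩) _

theorem cE_mem (F : Frame (A := A) x) (s : MvPolynomial ι k) (i : Fin F.r) : cE F s i ∈ O A x := by
  classical
  simp only [cE, Matrix.vecMul, dotProduct]
  refine sum_mem fun j _ => mul_mem ⟨_, rfl⟩ ?_
  rw [Matrix.adjugate_apply, Matrix.det_apply]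
  refine sum_mem fun σ _ => zsmul_mem (prod_mem fun i' _ => ?_) _
  by_cases h : σ i' = i
  · rw [h, Matrix.updateRow_self, Pi.single_apply]
    split_ifs
    exacts [one_mem _, zero_mem _]
  · rw [Matrix.updateRow_ne h]; exact ⟨_, rfl⟩

/-- The corrected form over the orbit. -/
def psiT (F : Frame (A := A) x) (s : MvPolynomial ι k) : MvPolynomial ι A :=
  cst k A ι (aE F) * inc k A ι s - ∑ i, cst k A ι (cE F s i) * inc k A ι (F.φ i)

theorem ev_psiT (F : Frame (A := A) x) (g : A →ₐ[k] k) (s : MvPolynomial ι k) :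
    ev g (psiT F s) = psi F g s := by
  rw [psiT, map_sub, map_sum, ev_cst_mul, ev_inc]
  simp only [ev_cst_mul, ev_inc]
  rfl

theorem psiT_mem (F : Frame (A := A) x) (hlin : Linear k A ι) {s : MvPolynomial ι k} (hs : s ∈ Lin k ι) :
    psiT F s ∈ L A x :=
  (mem_L x).2 ⟨sub_mem (cst_mul_mem_MO x (aE_mem F) (inc_mem_MO x hs))
    (sum_mem fun i _ => cst_mul_mem_MO x (cE_mem F s i) (inc_mem_MO x (F.hφ i))),
    fun g => by rw [ev_psiT]; exact psi_mem_K F hlin g hs⟩

variable (x) in
/-- Denominators of retractions onto the conormal module. -/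
def J : Ideal (O A x) where
  carrier := {a | ∃ F : ι → MvPolynomial ι A, (∀ i, F i ∈ L A x) ∧
    ∀ ψ ∈ L A x, MvPolynomial.aeval F ψ = cst k A ι (a : A) * ψ}
  zero_mem' := ⟨0, fun _ => zero_mem _, fun ψ hψ => by
    obtain ⟨c, rfl⟩ := ((mem_L x).1 hψ).1
    simp [lfO_apply, map_sum, map_mul, MvPolynomial.aeval_X]⟩
  add_mem' := by
    rintro a b ⟨F, hF, hFψ⟩ ⟨G, hG, hGψ⟩
    refine ⟨F + G, fun i => add_mem (hF i) (hG i), fun ψ hψ => ?_⟩
    obtain ⟨c, rfl⟩ := ((mem_L x).1 hψ).1
    have h1 := hFψ _ hψ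
    have h2 := hGψ _ hψ
    simp only [lfO_apply, map_sum, map_mul, MvPolynomial.aeval_X, cst_apply, MvPolynomial.aeval_C,
      Pi.add_apply, mul_add, Finset.sum_add_distrib, Subalgebra.coe_add, map_add, add_mul] at h1 h2 ⊢
    rw [h1, h2]
  smul_mem' := by
    rintro o a ⟨F, hF, hFψ⟩
    refine ⟨fun i => cst k A ι (o : A) * F i, fun i => cst_mul_mem_L x o.2 (hF i), fun ψ hψ => ?_⟩
    obtain ⟨c, rfl⟩ := ((mem_L x).1 hψ).1
    have h1 := hFψ _ hψ
    simp only [lfO_apply, map_sum, map_mul, MvPolynomial.aeval_X, cst_apply, MvPolynomial.aeval_C,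
      smul_eq_mul, MulMemClass.coe_mul] at h1 ⊢
    rw [_root_.mul_assoc, ← h1, Finset.mul_sum]
    exact Finset.sum_congr rfl fun i _ => by ring

/-- Conjugation of linear substitutions by translations. -/
theorem aeval_conj (h : A →ₐ[k] k) (F : ι → MvPolynomial ι A) (ψ : MvPolynomial ι A) :
    MvPolynomial.aeval (fun i => transl k A h (MvPolynomial.aeval F
      (transl k A (inv h) (inc k A ι (MvPolynomial.X i))))) ψ =
      transl k A h (MvPolynomial.aeval F (transl k A (inv h) ψ)) := by
  have e : (MvPolynomial.aeval (fun i => transl k A h (MvPolynomial.aeval F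
      (transl k A (inv h) (inc k A ι (MvPolynomial.X i)))))).restrictScalars k =
      (transl (R := MvPolynomial ι A) k A h).comp
        (((MvPolynomial.aeval F).restrictScalars k).comp (transl (R := MvPolynomial ι A) k A (inv h))) := by
    refine MvPolynomial.algHom_ext' (AlgHom.ext fun a => ?_) fun i => ?_
    · show MvPolynomial.aeval _ (cst k A ι a) =
        transl k A h (MvPolynomial.aeval F (transl k A (inv h) (cst k A ι a)))
      rw [transl_cst, cst_apply, cst_apply, MvPolynomial.aeval_C, MvPolynomial.aeval_C,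
        MvPolynomial.algebraMap_eq, ← cst_apply (k := k), ← cst_apply (k := k), transl_cst, transl_transl_inv]
    · simp only [AlgHom.restrictScalars_apply, AlgHom.comp_apply, MvPolynomial.aeval_X, inc_X]
  exact DFunLike.congr_fun e ψ

theorem transl_mem_J (hlin : Linear k A ι) (h : A →ₐ[k] k) {a : O A x} (ha : a ∈ J x) :
    (⟨transl k A h (a : A), transl_mem_O x h a.2⟩ : O A x) ∈ J x := by
  obtain ⟨F, hF, hFψ⟩ := ha
  refine ⟨fun i => transl k A h (MvPolynomial.aeval F (transl k A (inv h) (inc k A ι (MvPolynomial.X i)))),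
    fun i => transl_mem_L x hlin h (aeval_mem_L x hF (transl_mem_MO x hlin _
      (inc_mem_MO x (Submodule.subset_span ⟨i, rfl⟩)))), fun ψ hψ => ?_⟩
  rw [aeval_conj, hFψ _ (transl_mem_L x hlin _ hψ), map_mul, transl_transl_inv, transl_cst]

theorem exists_retraction (hlin : Linear k A ι) (hx : GLin.IsClosedOrbit k A x) :
    ∃ F : ι → MvPolynomial ι A, (∀ i, F i ∈ L A x) ∧ ∀ ψ ∈ L A x, MvPolynomial.aeval F ψ = ψ := by
  classical
  obtain ⟨Fr⟩ := exists_frame (A := A) x
  have ha : (⟨aE Fr, aE_mem Fr⟩ : O A x) ∈ J x := by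
    refine ⟨fun i => psiT Fr (MvPolynomial.X i), fun i => psiT_mem Fr hlin (Submodule.subset_span ⟨i, rfl⟩),
      fun ψ hψ => ext_of_ev (k := k) fun g => ?_⟩
    obtain ⟨c, hc⟩ := ((mem_L x).1 hψ).1
    have hK := ((mem_L x).1 hψ).2 g
    have e1 : ev g ψ = ∑ i, g (c i : A) • MvPolynomial.X i := by
      rw [← hc, lfO_apply, map_sum]
      refine Finset.sum_congr rfl fun i _ => ?_
      rw [ev_cst_mul, ← inc_X (k := k) (A := A) i, ev_inc]
    have e2 : psi Fr g (ev g ψ) = g (aE Fr) • ev g ψ := by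
      show g (aE Fr) • ev g ψ - ∑ i, g (cE Fr (ev g ψ) i) • Fr.φ i = _
      rw [Finset.sum_eq_zero (fun i _ => by rw [cE_eq_zero Fr hK, zero_smul]), sub_zero]
    rw [ev_cst_mul, ← e2, e1, map_sum, ← hc, lfO_apply, map_sum, map_sum]
    refine Finset.sum_congr rfl fun i _ => ?_
    rw [map_mul, MvPolynomial.aeval_X, show MvPolynomial.aeval _ (cst k A ι (c i : A)) = cst k A ι (c i : A) from
      MvPolynomial.aeval_C _ _, ev_cst_mul, ev_psiT, map_smul]
  have htop : J (A := A) x = ⊤ := by
    by_contra hne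
    haveI : Algebra.FiniteType k (O A x) :=
      Algebra.FiniteType.of_surjective (orbO A x) (AlgHom.rangeRestrict_surjective _)
    obtain ⟨p, hp⟩ := ClosedOrbit.exists_pt (k := k) hne
    have hle : GLin.InOrbitClosure k A x (p.comp (orbO A x)) := fun t ht => by
      show p (orbO A x t) = 0
      rw [show orbO A x t = 0 from Subtype.ext (RingHom.mem_ker.1 ht), map_zero]
    obtain ⟨g, hg⟩ := ClosedOrbit.exists_actPt_eq_of_isClosedOrbit hx hle
    have hpg : ∀ o : O A x, p o = g (o : A) := by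
      rintro ⟨_, t, rfl⟩
      exact DFunLike.congr_fun hg t
    have h1 := RingHom.mem_ker.1 (hp (transl_mem_J hlin (inv g) ha))
    rw [hpg] at h1
    change g (transl k A (inv g) (aE Fr)) = 0 at h1
    rw [← counit_transl g, transl_transl_inv, ← Bialgebra.counitAlgHom_apply, counit_aE] at h1
    exact one_ne_zero h1
  obtain ⟨F, hF, hFψ⟩ := (htop ▸ Submodule.mem_top : (1 : O A x) ∈ J (A := A) x)
  exact ⟨F, hF, fun ψ hψ => by rw [hFψ ψ hψ, OneMemClass.coe_one, map_one, one_mul]⟩

/-- An equivariant projector onto the conormal module. -/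
theorem exists_projector (hA : HopfRep.IsLinearlyReductive k A) (hlin : Linear k A ι)
    (hx : GLin.IsClosedOrbit k A x) :
    ∃ e : ι → MvPolynomial ι A, (∀ i, e i ∈ L A x) ∧ (∀ ψ ∈ L A x, MvPolynomial.aeval e ψ = ψ) ∧
      ∀ (h : A →ₐ[k] k) (s : MvPolynomial ι k), s ∈ Lin k ι →
        transl k A h (MvPolynomial.aeval e (inc k A ι s)) = MvPolynomial.aeval e (inc k A ι (transl k A h s)) := by
  classical
  obtain ⟨F, hF, hFψ⟩ := exists_retraction hlin hx
  obtain ⟨l, hl1, hl, -, -⟩ := ReynoldsOp.avg_mem (V := A) hA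
  let ρ : MvPolynomial ι A →ₐ[k] MvPolynomial ι A := (MvPolynomial.aeval F).restrictScalars k
  let f : MvPolynomial ι k →ₐ[k] MvPolynomial ι A ⊗[k] A :=
    ((Algebra.TensorProduct.map (AlgHom.id k _) (HopfAlgebra.antipodeAlgHom k A)).comp (coT k A ι)).comp
      (ρ.comp (inc k A ι))
  let Φ : MvPolynomial ι k →ₐ[k] MvPolynomial ι A ⊗[k] A :=
    (Algebra.TensorProduct.lift f Algebra.TensorProduct.includeRight fun _ _ => Commute.all _ _).comp
      (GLin.coactAlgHom k A (MvPolynomial ι k))
  let evA : (A →ₐ[k] k) → (MvPolynomial ι A ⊗[k] A →ₐ[k] MvPolynomial ι A) := fun g =>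
    (Algebra.TensorProduct.rid k k _).toAlgHom.comp (Algebra.TensorProduct.map (AlgHom.id k _) g)
  have hevA : ∀ g z, evA g z = rcon g.toLinearMap z := fun g z => rid_map_eq_rcon k A g z
  have hcst : ∀ a : A, ρ (cst k A ι a) = cst k A ι a := fun a => MvPolynomial.aeval_C _ a
  have hΦ : ∀ (g : A →ₐ[k] k) s, evA g (Φ s) =
      transl k A (inv g) (ρ (inc k A ι (transl k A g s))) := by
    intro g s
    have e1 : ∀ z : MvPolynomial ι A ⊗[k] A, evA g
        (Algebra.TensorProduct.map (AlgHom.id k _) (HopfAlgebra.antipodeAlgHom k A) z) = evA (inv g) z := by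
      intro z
      induction z with
      | zero => simp
      | add p q hp hq => simp only [map_add, hp, hq]
      | tmul p q => simp [evA, inv]
    have e2 : ∀ z : MvPolynomial ι k ⊗[k] A, evA g
        ((Algebra.TensorProduct.lift f Algebra.TensorProduct.includeRight fun _ _ => Commute.all _ _) z) =
        transl k A (inv g) (ρ (inc k A ι (rcon g.toLinearMap z))) := by
      intro z
      induction z with
      | zero => simp
      | add p q hp hq => simp only [map_add, hp, hq]
      | tmul p q =>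
        rw [rcon_tmul, map_smul, map_smul, map_smul, Algebra.TensorProduct.lift_tmul, map_mul]
        show evA g (Algebra.TensorProduct.map (AlgHom.id k _) (HopfAlgebra.antipodeAlgHom k A) (coT k A ι (ρ (inc k A ι p)))) *
          evA g ((1 : MvPolynomial ι A) ⊗ₜ[k] q) = g q • transl k A (inv g) (ρ (inc k A ι p))
        rw [e1, hevA, hevA g, rcon_tmul, transl_apply, AlgHom.toLinearMap_apply, Algebra.smul_def, mul_one, mul_comm,
          ← Algebra.smul_def]
        rfl
    rw [transl_apply]
    exact e2 _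
  let e : ι → MvPolynomial ι A := fun i => rcon l (Φ (MvPolynomial.X i))
  have hX : ∀ i, (MvPolynomial.X i : MvPolynomial ι k) ∈ Lin k ι := fun i => Submodule.subset_span ⟨i, rfl⟩
  have heL : ∀ i, e i ∈ L A x := fun i => rcon_mem _ _ (fun g => by
    rw [← hevA, hΦ]
    exact transl_mem_L x hlin _ (aeval_mem_L x hF (inc_mem_MO x (hlin g _ (hX i))))) l
  have hlin_e : ∀ s ∈ Lin k ι, MvPolynomial.aeval e (inc k A ι s) = rcon l (Φ s) := by
    intro s hs
    induction hs using Submodule.span_induction with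
    | mem v hv => obtain ⟨i, rfl⟩ := hv; rw [inc_X, MvPolynomial.aeval_X]
    | zero => simp
    | add p q _ _ hp hq => simp only [map_add, hp, hq]
    | smul r p _ hp =>
      rw [map_smul (inc k A ι), map_smul Φ, LinearMap.map_smul (rcon l), ← hp]
      exact LinearMap.map_smul_of_tower (MvPolynomial.aeval e).toLinearMap r _
  refine ⟨e, heL, fun ψ hψ => ?_, fun h s hs => ?_⟩
  · obtain ⟨c, hc⟩ := ((mem_L x).1 hψ).1
    have hz : rcon l (∑ i, ((cst k A ι (c i : A)) ⊗ₜ[k] (1 : A)) * Φ (MvPolynomial.X i)) = rcon l (ψ ⊗ₜ[k] (1 : A)) := by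
      refine rcon_eq (fun g => ?_) l
      rw [← hevA, ← hevA, map_sum]
      have e3 : ∀ φ : MvPolynomial ι A, evA g (φ ⊗ₜ[k] (1 : A)) = φ := fun φ => by simp [evA]
      simp only [map_mul, e3, hΦ]
      have e4 : ψ = transl k A (inv g) (ρ (transl k A g ψ)) := by
        show ψ = transl k A (inv g) (MvPolynomial.aeval F (transl k A g ψ))
        rw [hFψ _ (transl_mem_L x hlin g hψ), transl_transl, inv_mul', transl_one]
      conv_rhs => rw [e4, ← hc, lfO_apply, map_sum, map_sum, map_sum]
      refine Finset.sum_congr rfl fun i _ => ?_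
      rw [map_mul, map_mul, map_mul, transl_cst, hcst, transl_cst, transl_transl, inv_mul', transl_one,
        ← inc_X (k := k) (A := A) i, transl_inc]
    rw [map_sum, rcon_tmul, hl1, one_smul] at hz
    refine Eq.trans ?_ hz
    rw [← hc, lfO_apply, map_sum]
    refine Finset.sum_congr rfl fun i _ => ?_
    rw [map_mul, MvPolynomial.aeval_X, show MvPolynomial.aeval _ (cst k A ι (c i : A)) = cst k A ι (c i : A) from
      MvPolynomial.aeval_C _ _]
    have e5 : ∀ (a : MvPolynomial ι A) (z : MvPolynomial ι A ⊗[k] A), rcon l ((a ⊗ₜ[k] (1 : A)) * z) = a * rcon l z := by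
      intro a z
      induction z with
      | zero => simp
      | add p q hp hq => simp only [mul_add, map_add, hp, hq]
      | tmul p q => simp [rcon, mul_smul_comm]
    exact (e5 _ _).symm
  · rw [hlin_e s hs, hlin_e _ (hlin h s hs)]
    have hl' : ∀ (h' : A →ₐ[k] k) (a : A), l (transl k A h' a) = l a := by
      intro h' a
      have h2 := congrArg (fun z => h'.toLinearMap (TensorProduct.lid k A z)) (hl a)
      simp only [TensorProduct.lid_tmul, map_smul, AlgHom.toLinearMap_apply, map_one, smul_eq_mul, mul_one] at h2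
      rw [← h2, transl_apply, coact_regular']
      induction Coalgebra.comul (R := k) a with
      | zero => simp
      | add p q hp hq => simp only [map_add, hp, hq]
      | tmul p q => simp [rcon, mul_comm]
    let σ : A →ₗ[k] A := (transl k A (inv h)).toLinearMap
    have e6 : rcon l ((transl k A h).toLinearMap.rTensor A (Φ s)) = rcon l (σ.lTensor _ (Φ (transl k A h s))) := by
      refine rcon_eq (fun g => ?_) l
      rw [rcon_rTensor, rcon_lTensor]
      have e7 : g.toLinearMap ∘ₗ σ = (toConv g * toConv (inv h)).ofConv.toLinearMap :=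
        LinearMap.ext fun a => apply_transl g (inv h) a
      rw [e7, ← hevA, ← hevA, hΦ, hΦ, AlgHom.toLinearMap_apply, transl_transl]
      have e8 : toConv (inv (toConv g * toConv (inv h)).ofConv) = toConv h * toConv (inv g) := inv_conv_eq (by
        rw [_root_.mul_assoc, ← _root_.mul_assoc (toConv (inv h)), inv_mul', one_mul, mul_inv'])
      have e9 : transl k A (toConv g * toConv (inv h)).ofConv (transl k A h s) = transl k A g s := by
        rw [transl_transl, toConv_ofConv, _root_.mul_assoc, inv_mul', mul_one, ofConv_toConv]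
      rw [e9, ← e8, ofConv_toConv]
    rw [rcon_rTensor, rcon_lTensor] at e6
    rw [← AlgHom.toLinearMap_apply, e6]
    congr 1
    exact congrArg rcon (LinearMap.ext fun a => hl' (inv h) a)

end Groth.Agent.LunaNhd
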