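import Groth.Agent.LunaNhdLib.Retract
import Groth.Agent.LunaNhdLib.Jac
import Groth.Agent.EtNhdLib.Main
import Groth.Agent.FreeQuotEt.Normal
import Mathlib

/-!
# The normal bundle of a closed orbit maps etale onto a neighbourhood of it
-/

set_option autoImplicit false
set_option backward.isDefEq.respectTransparency false
set_option backward.isDefEq.respectTransparency.types false

noncomputable section

universe u

open TensorProduct WithConv

namespace Groth.Agent.LunaNhd

open Groth.Agent.Comodule Groth.Agent.EqZMT Groth.Agent.EtInv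

variable {k : Type u} [Field k] [IsAlgClosed k] [CharZero k] {A : Type u} [CommRing A] [IsDomain A]
  [HopfAlgebra k A] [Algebra.FiniteType k A]

theorem equivariant_of_transl {P Q : Type u} [CommRing P] [Algebra k P] [HopfRep.Comod k A P]
    [GLin.IsCoactAlg k A P] [CommRing Q] [Algebra k Q] [HopfRep.Comod k A Q] [GLin.IsCoactAlg k A Q]
    (φ : P →ₐ[k] Q) (h : ∀ (g : A →ₐ[k] k) p, transl k A g (φ p) = φ (transl k A g p)) (p : P) :
    HopfRep.Comod.coact (k := k) (A := A) (φ p) =
      Algebra.TensorProduct.map φ (AlgHom.id k A) (HopfRep.Comod.coact (k := k) (A := A) p) := by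
  refine sub_eq_zero.1 ?_
  set z := HopfRep.Comod.coact (k := k) (A := A) (φ p) -
    Algebra.TensorProduct.map φ (AlgHom.id k A) (HopfRep.Comod.coact (k := k) (A := A) p) with hz
  obtain ⟨κ, hκ, b, c, ψ, hzb, hb, -⟩ := PropAct.exists_decomp z
  have h0 : ∀ f : A →ₗ[k] k, rcon f z = 0 := fun f =>
    (Submodule.mem_bot k).1 (rcon_mem (⊥ : Submodule k Q) z (fun g => by
      rw [Submodule.mem_bot, hz, map_sub, sub_eq_zero]
      have hm : ∀ y : P ⊗[k] A, rcon g.toLinearMap (Algebra.TensorProduct.map φ (AlgHom.id k A) y) =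
          φ (rcon g.toLinearMap y) := by
        intro y
        induction y with
        | zero => simp
        | add p q hp hq => simp only [map_add, hp, hq]
        | tmul p q => simp [rcon]
      rw [hm, ← transl_apply, ← transl_apply, h]) f)
  rw [hzb]
  exact Finset.sum_eq_zero fun i _ => by rw [hb i, h0, TensorProduct.zero_tmul]

/-- Stabilisers only grow under equivariant maps. -/
theorem stabIdeal_comp_le {P Q : Type u} [CommRing P] [Algebra k P] [HopfRep.Comod k A P]
    [GLin.IsCoactAlg k A P] [CommRing Q] [Algebra k Q] [HopfRep.Comod k A Q] [GLin.IsCoactAlg k A Q]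
    (φ : P →ₐ[k] Q) (h : ∀ (g : A →ₐ[k] k) p, transl k A g (φ p) = φ (transl k A g p)) (z : Q →ₐ[k] k) :
    GLin.stabIdeal k A (z.comp φ) ≤ GLin.stabIdeal k A z := by
  refine Ideal.map_le_iff_le_comap.2 fun p hp => ?_
  show GLin.orbitHom k A (z.comp φ) p ∈ GLin.stabIdeal k A z
  have e : GLin.orbitHom k A (z.comp φ) p = GLin.orbitHom k A z (φ p) :=
    eq_of_forall_pt (k := k) fun g => by
      rw [pt_orbit, pt_orbit, AlgHom.comp_apply, h]
  rw [e]
  exact Ideal.mem_map_of_mem _ hp

variable {ι : Type u} [Fintype ι] [HopfRep.Comod k A (MvPolynomial ι k)] [GLin.IsCoactAlg k A (MvPolynomial ι k)]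
variable {x : MvPolynomial ι k →ₐ[k] k}

variable (x) in
/-- The orbit morphism into the ambient ring. -/
abbrev orbC : MvPolynomial ι k →ₐ[k] MvPolynomial ι A := (cst k A ι).comp (orb x)

theorem transl_orbC (g : A →ₐ[k] k) (s : MvPolynomial ι k) :
    transl k A g (orbC (A := A) x s) = orbC (A := A) x (transl k A g s) := by
  rw [AlgHom.comp_apply, AlgHom.comp_apply, transl_cst, orbit_transl]

variable (k A ι) in
/-- The base point of the zero section. -/
def z0 : MvPolynomial ι A →ₐ[k] k := (MvPolynomial.aeval fun _ : ι => (0 : k)).comp (ev (eps k A))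

omit [IsAlgClosed k] [CharZero k] [IsDomain A] [Algebra.FiniteType k A] [Fintype ι]
  [HopfRep.Comod k A (MvPolynomial ι k)] [GLin.IsCoactAlg k A (MvPolynomial ι k)] in
theorem z0_cst (a : A) : z0 k A ι (cst k A ι a) = eps k A a := by
  rw [z0, AlgHom.comp_apply, ev_cst, AlgHom.commutes]
  rfl

omit [IsAlgClosed k] [CharZero k] [IsDomain A] [Algebra.FiniteType k A] in
theorem z0_MO {ψ : MvPolynomial ι A} (h : ψ ∈ MO A x) : z0 k A ι ψ = 0 := by
  obtain ⟨c, rfl⟩ := h
  rw [lfO_apply, map_sum]
  refine Finset.sum_eq_zero fun i _ => ?_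
  rw [map_mul, ← inc_X (k := k) (A := A) i]
  have : z0 k A ι (inc k A ι (MvPolynomial.X i)) = 0 := by
    rw [z0, AlgHom.comp_apply, ev_inc, MvPolynomial.aeval_X]
  rw [this, mul_zero]

theorem eps_orb (s : MvPolynomial ι k) : eps k A (orb x s) = x s := by
  rw [Bialgebra.counitAlgHom_apply, OrbitFlat.counit_orbit]

variable (e : ι → MvPolynomial ι A)

variable (x) in
/-- The coordinate ring of the normal bundle. -/
abbrev NB : Subalgebra k (MvPolynomial ι A) :=
  Algebra.adjoin k (Set.range (fun i => orbC x (MvPolynomial.X i)) ∪ Set.range e)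

omit [IsDomain A] [IsAlgClosed k] [CharZero k] [Algebra.FiniteType k A] [Fintype ι] in
theorem orbC_mem (s : MvPolynomial ι k) : orbC x s ∈ NB x e := by
  induction s using MvPolynomial.induction_on with
  | C a => rw [← MvPolynomial.algebraMap_eq, AlgHom.commutes]; exact Subalgebra.algebraMap_mem _ _
  | add p q hp hq => rw [map_add]; exact add_mem hp hq
  | mul_X p i hp => rw [map_mul]; exact mul_mem hp (Algebra.subset_adjoin (Or.inl ⟨i, rfl⟩))

omit [IsDomain A] [IsAlgClosed k] [CharZero k] [Algebra.FiniteType k A] [Fintype ι] in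
theorem aeval_mem (s : MvPolynomial ι k) : MvPolynomial.aeval e (inc k A ι s) ∈ NB x e := by
  induction s using MvPolynomial.induction_on with
  | C a =>
    rw [← MvPolynomial.algebraMap_eq, AlgHom.commutes, IsScalarTower.algebraMap_apply k A (MvPolynomial ι A),
      AlgHom.commutes, ← IsScalarTower.algebraMap_apply]
    exact Subalgebra.algebraMap_mem _ _
  | add p q hp hq => rw [map_add, map_add]; exact add_mem hp hq
  | mul_X p i hp =>
    rw [map_mul, map_mul, inc_X, MvPolynomial.aeval_X]
    exact mul_mem hp (Algebra.subset_adjoin (Or.inr ⟨i, rfl⟩))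

theorem isSubcomod_NB (hlin : Linear k A ι)
    (heq : ∀ (h : A →ₐ[k] k) (s : MvPolynomial ι k), s ∈ Lin k ι →
      transl k A h (MvPolynomial.aeval e (inc k A ι s)) = MvPolynomial.aeval e (inc k A ι (transl k A h s))) :
    HopfRep.IsSubcomod (k := k) (A := A) (Subalgebra.toSubmodule (NB x e)) := by
  refine EqThick.isSubcomod_adjoin _ ?_
  rintro g _ (⟨i, rfl⟩ | ⟨i, rfl⟩)
  · show transl k A g (orbC x (MvPolynomial.X i)) ∈ _
    rw [transl_orbC]; exact orbC_mem e _
  · have h := heq g (MvPolynomial.X i) (Submodule.subset_span ⟨i, rfl⟩)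
    rw [inc_X, MvPolynomial.aeval_X] at h
    rw [h]; exact aeval_mem e _

set_option maxHeartbeats 1000000 in
/-- The map of the normal bundle to the representation is unramified along the zero section. -/
theorem cotangent_le (hlin : Linear k A ι) (heL : ∀ i, e i ∈ L A x) (hid : ∀ ψ ∈ L A x, MvPolynomial.aeval e ψ = ψ)
    (μ : MvPolynomial ι k →ₐ[k] NB x e)
    (hμ : ∀ s ∈ Lin k ι, (μ s : MvPolynomial ι A) = orbC x s + MvPolynomial.aeval e (inc k A ι s))
    (z : NB x e →ₐ[k] k) (hz : z = (z0 k A ι).comp (NB x e).val) :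
    RingHom.ker z ≤ (RingHom.ker x).map μ.toRingHom ⊔ RingHom.ker z ^ 2 := by
  classical
  set I : Ideal (NB x e) := (RingHom.ker x).map μ.toRingHom ⊔ RingHom.ker z ^ 2 with hI
  let π : MvPolynomial ι k →ₐ[k] NB x e := (orbC x).codRestrict _ (orbC_mem e)
  let β : MvPolynomial ι k →ₐ[k] NB x e :=
    (((MvPolynomial.aeval e).restrictScalars k).comp (inc k A ι)).codRestrict _ (aeval_mem e)
  have hzπ : ∀ s, z (π s) = x s := fun s => by
    rw [hz, ← eps_orb (A := A) s]; exact z0_cst (ι := ι) _
  have hzμ : ∀ s ∈ Lin k ι, z (μ s) = x s := fun s hs => by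
    have h0 : z0 k A ι (MvPolynomial.aeval e (inc k A ι s)) = 0 :=
      z0_MO ((mem_L x).1 (aeval_mem_L x heL (inc_mem_MO x hs))).1
    rw [hz, AlgHom.comp_apply, Subalgebra.coe_val, hμ s hs, map_add, h0, add_zero, AlgHom.comp_apply, z0_cst, eps_orb]
  have hzβ : ∀ s ∈ Lin k ι, z (β s) = 0 := fun s hs => by
    rw [hz]; exact z0_MO ((mem_L x).1 (aeval_mem_L x heL (inc_mem_MO x hs))).1
  -- the sum of the two coordinates
  have hsum : ∀ s ∈ Lin k ι, (π s - algebraMap k _ (x s)) + β s ∈ I := fun s hs => by
    refine Submodule.mem_sup_left ?_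
    have e1 : (π s - algebraMap k _ (x s)) + β s = μ.toRingHom (s - algebraMap k _ (x s)) := by
      rw [AlgHom.toRingHom_eq_coe, RingHom.coe_coe, map_sub, AlgHom.commutes, show μ s = π s + β s from Subtype.ext (hμ s hs)]
      abel
    rw [e1]
    exact Ideal.mem_map_of_mem _ (by simp [RingHom.mem_ker])
  -- the coordinates of the orbit
  have hO : ∀ o : O A x, cst k A ι (o : A) ∈ NB x e := by
    rintro ⟨_, t, rfl⟩; exact orbC_mem e t
  let cO : O A x →ₐ[k] NB x e := ((cst k A ι).comp (O A x).val).codRestrict _ hO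
  have hcOπ : ∀ s, cO (orbO A x s) = π s := fun s => rfl
  have hcOm : (mO A x (eps k A)).map cO.toRingHom ≤ RingHom.ker z := Ideal.map_le_iff_le_comap.2 fun o ho => by
    show z (cO o) = 0
    rw [hz]
    exact (z0_cst (ι := ι) (o : A)).trans ho
  have hK : ∀ s ∈ K x (eps k A), π s - algebraMap k _ (x s) ∈ I := fun s hs => by
    have h := Ideal.mem_map_of_mem cO.toRingHom (mem_sq_of_mem_K hlin hs)
    rw [Ideal.map_pow] at h
    have h' := Ideal.pow_right_mono hcOm 2 h
    rw [AlgHom.toRingHom_eq_coe, RingHom.coe_coe, map_sub, AlgHom.commutes, hcOπ] at h'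
    exact Submodule.mem_sup_right h'
  have hα : ∀ s ∈ Lin k ι, π s - algebraMap k _ (x s) ∈ I ∧ β s ∈ I := by
    intro s hs
    have hψ := aeval_mem_L x heL (inc_mem_MO x hs)
    set ψ := MvPolynomial.aeval e (inc k A ι s) with hψdef
    let t : MvPolynomial ι k := ev (eps k A) ψ
    have htK : t ∈ K x (eps k A) := ((mem_L x).1 hψ).2 (eps k A)
    have htLin : t ∈ Lin k ι := ((mem_K x).1 htK).1
    obtain ⟨c, hc⟩ := ((mem_L x).1 hψ).1
    have hdiff : β (s - t) ∈ RingHom.ker z ^ 2 := by
      have e1 : β (s - t) = ∑ i, (cO (c i) - algebraMap k _ (eps k A (c i : A))) * β (MvPolynomial.X i) := by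
        refine Subtype.ext ?_
        have h2 : MvPolynomial.aeval e ψ = ψ := hid ψ hψ
        have ht' : t = ∑ i, eps k A (c i : A) • MvPolynomial.X i := by
          show ev (eps k A) ψ = _
          rw [← hc, lfO_apply, map_sum]
          refine Finset.sum_congr rfl fun i _ => ?_
          rw [ev_cst_mul, ← inc_X (k := k) (A := A) i, ev_inc]
        show MvPolynomial.aeval e (inc k A ι (s - t)) =
          (((∑ i, (cO (c i) - algebraMap k _ (eps k A (c i : A))) * β (MvPolynomial.X i)) : NB x e) : MvPolynomial ι A)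
        rw [map_sub, map_sub, ← hψdef]
        conv_lhs => rw [← h2, ← hc, lfO_apply, map_sum, ht', map_sum, map_sum, ← Finset.sum_sub_distrib]
        rw [AddSubmonoidClass.coe_finsetSum]
        refine Finset.sum_congr rfl fun i _ => ?_
        show _ = (cst k A ι (c i : A) - algebraMap k (MvPolynomial ι A) (eps k A (c i : A))) *
          MvPolynomial.aeval e (inc k A ι (MvPolynomial.X i))
        rw [map_mul, map_smul, inc_X, cst_apply, MvPolynomial.aeval_C, MvPolynomial.algebraMap_eq,
          ← algebraMap_smul A (eps k A (c i : A)) (MvPolynomial.X i : MvPolynomial ι A), map_smul, sub_mul,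
          Algebra.smul_def, IsScalarTower.algebraMap_apply k A (MvPolynomial ι A), MvPolynomial.aeval_X]
      rw [e1, pow_two]
      refine Submodule.sum_mem _ fun i _ => Ideal.mul_mem_mul ?_ (hzβ _ (Submodule.subset_span ⟨i, rfl⟩))
      rw [RingHom.mem_ker, map_sub, AlgHom.commutes, hz]
      show z0 k A ι (cst k A ι (c i : A)) - _ = 0
      rw [z0_cst]; simp
    have h1 : π (s - t) - algebraMap k _ (x (s - t)) ∈ I := by
      have h := sub_mem (hsum (s - t) (sub_mem hs htLin)) (show β (s - t) ∈ I from Submodule.mem_sup_right hdiff)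
      rwa [add_sub_cancel_right] at h
    have h2 : π s - algebraMap k _ (x s) ∈ I := by
      have h := add_mem h1 (hK t htK)
      have e3 : π (s - t) - algebraMap k _ (x (s - t)) + (π t - algebraMap k _ (x t)) =
          π s - algebraMap k _ (x s) := by rw [map_sub π, map_sub x, map_sub]; ring
      rwa [e3] at h
    refine ⟨h2, ?_⟩
    have h := sub_mem (hsum s hs) h2
    rwa [add_sub_cancel_left] at h
  intro r hr
  suffices h : ∀ r : NB x e, r - algebraMap k _ (z r) ∈ I by
    have := h r
    rwa [RingHom.mem_ker.1 hr, map_zero, sub_zero] at this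
  rintro ⟨r, hr'⟩
  induction hr' using Algebra.adjoin_induction with
  | mem w hw =>
    rcases hw with ⟨i, rfl⟩ | ⟨i, rfl⟩
    · have h := (hα (MvPolynomial.X i) (Submodule.subset_span ⟨i, rfl⟩)).1
      rw [← hzπ] at h
      exact h
    · have h := (hα (MvPolynomial.X i) (Submodule.subset_span ⟨i, rfl⟩)).2
      have e2 : (⟨e i, Algebra.subset_adjoin (Or.inr ⟨i, rfl⟩)⟩ : NB x e) = β (MvPolynomial.X i) :=
        Subtype.ext (by
          show e i = MvPolynomial.aeval e (inc k A ι (MvPolynomial.X i))
          rw [inc_X, MvPolynomial.aeval_X])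
      rw [e2, hzβ _ (Submodule.subset_span ⟨i, rfl⟩), map_zero, sub_zero]
      exact h
  | algebraMap c =>
    rw [show (⟨algebraMap k (MvPolynomial ι A) c, Subalgebra.algebraMap_mem _ c⟩ : NB x e) = algebraMap k _ c from rfl,
      AlgHom.commutes]
    simp
  | add p q hp hq h1 h2 =>
    rw [show (⟨p + q, add_mem hp hq⟩ : NB x e) = ⟨p, hp⟩ + ⟨q, hq⟩ from rfl, map_add, map_add, add_sub_add_comm]
    exact add_mem h1 h2
  | mul p q hp hq h1 h2 =>
    rw [show (⟨p * q, mul_mem hp hq⟩ : NB x e) = ⟨p, hp⟩ * ⟨q, hq⟩ from rfl, map_mul, map_mul]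
    have e4 : (⟨p, hp⟩ : NB x e) * ⟨q, hq⟩ - algebraMap k _ (z ⟨p, hp⟩) * algebraMap k _ (z ⟨q, hq⟩) =
        (⟨p, hp⟩ - algebraMap k _ (z ⟨p, hp⟩)) * ⟨q, hq⟩ +
          algebraMap k _ (z ⟨p, hp⟩) * (⟨q, hq⟩ - algebraMap k _ (z ⟨q, hq⟩)) := by ring
    rw [e4]
    exact add_mem (Ideal.mul_mem_right _ _ h1) (Ideal.mul_mem_left _ _ h2)

set_option maxHeartbeats 1000000 in
/-- The map of the normal bundle to the representation is injective. -/
theorem mu_injective (hlin : Linear k A ι) (heL : ∀ i, e i ∈ L A x) (hid : ∀ ψ ∈ L A x, MvPolynomial.aeval e ψ = ψ) :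
    Function.Injective (MvPolynomial.aeval (fun i => orbC x (MvPolynomial.X i) + e i) :
      MvPolynomial ι k →ₐ[k] MvPolynomial ι A) := by
  classical
  let v : ι → MvPolynomial ι A := fun i => orbC x (MvPolynomial.X i) + e i
  let vec : Derivation k (MvPolynomial ι A) (MvPolynomial ι A) → (ι → k) := fun D i => z0 k A ι (D (v i))
  let N : Submodule k (ι → k) := Submodule.span k (Set.range vec)
  have hN : N = ⊤ := by
    by_contra hne
    obtain ⟨θ, hθ, hθN⟩ := Submodule.exists_le_ker_of_lt_top N (lt_top_iff_ne_top.2 hne)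
    let w : ι → k := fun i => θ (Pi.single i 1)
    let s : MvPolynomial ι k := ∑ i, w i • MvPolynomial.X i
    have hs : s ∈ Lin k ι := Submodule.sum_mem _ fun i _ => Submodule.smul_mem _ _ (Submodule.subset_span ⟨i, rfl⟩)
    let ψ : MvPolynomial ι A := MvPolynomial.aeval e (inc k A ι s)
    have hψ : ψ ∈ L A x := aeval_mem_L x heL (inc_mem_MO x hs)
    have hvsum : ∑ i, w i • v i = orbC x s + ψ := by
      simp only [v, smul_add, Finset.sum_add_distrib, s, ψ, map_sum, map_smul, inc_X]
      congr 1
      refine Finset.sum_congr rfl fun i _ => ?_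
      rw [← algebraMap_smul A (w i) (MvPolynomial.X i : MvPolynomial ι A), map_smul, MvPolynomial.aeval_X, algebraMap_smul]
    have hall : ∀ D : Derivation k (MvPolynomial ι A) (MvPolynomial ι A), z0 k A ι (D (orbC x s + ψ)) = 0 := by
      intro D
      rw [← hvsum, map_sum, map_sum]
      have h1 : θ (vec D) = 0 := hθN (Submodule.subset_span ⟨D, rfl⟩)
      rw [← h1, pi_eq_sum_univ' (vec D), map_sum]
      refine Finset.sum_congr rfl fun i _ => ?_
      rw [Derivation.map_smul, map_smul, map_smul, smul_eq_mul, smul_eq_mul, mul_comm]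
    have hsK : s ∈ K x (eps k A) := by
      refine (mem_K_iff x).2 ⟨hs, fun ξ hξ => ?_⟩
      let D0 : Derivation k A A := Derivation.mk' (dact ξ) fun a b => eq_of_forall_pt (k := k) fun g => by
        rw [map_add, smul_eq_mul, smul_eq_mul, map_mul g a, map_mul g b, apply_dact, apply_dact, apply_dact,
          map_mul (lT g), hξ,
          ← Bialgebra.counitAlgHom_apply, ← Bialgebra.counitAlgHom_apply, counit_lT, counit_lT]
        ring
      have h := hall (coeffDer D0)
      rw [map_add, map_add] at h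
      have h2 : z0 k A ι (coeffDer D0 ψ) = 0 := by
        obtain ⟨c, hc⟩ := ((mem_L x).1 hψ).1
        rw [← hc, lfO_apply, map_sum, map_sum]
        refine Finset.sum_eq_zero fun i _ => ?_
        rw [Derivation.leibniz, cst_apply, coeffDer_C, coeffDer_X, smul_zero, zero_add, smul_eq_mul, map_mul,
          ← inc_X (k := k) (A := A) i]
        have : z0 k A ι (inc k A ι (MvPolynomial.X i)) = 0 := by
          rw [z0, AlgHom.comp_apply, ev_inc, MvPolynomial.aeval_X]
        rw [this, zero_mul]
      rw [h2, add_zero, AlgHom.comp_apply, cst_apply, coeffDer_C, ← cst_apply (k := k), z0_cst] at h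
      exact h
    have ht : ev (eps k A) ψ = 0 := by
      obtain ⟨c, hc⟩ := ((mem_L x).1 hψ).1
      rw [← hc, lfO_apply, map_sum]
      refine Finset.sum_eq_zero fun l _ => ?_
      have h := hall ((MvPolynomial.pderiv l).restrictScalars k)
      rw [Derivation.restrictScalars_apply, map_add, AlgHom.comp_apply, cst_apply, MvPolynomial.pderiv_C, zero_add,
        ← hc, lfO_apply, map_sum, Finset.sum_eq_single l (fun i _ hi => by
          rw [cst_apply, MvPolynomial.pderiv_C_mul, MvPolynomial.pderiv_X_of_ne hi, mul_zero])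
          (fun hl => absurd (Finset.mem_univ l) hl), cst_apply, MvPolynomial.pderiv_C_mul, MvPolynomial.pderiv_X_self,
        mul_one, ← cst_apply (k := k), z0_cst] at h
      rw [ev_cst_mul, h, zero_smul]
    obtain ⟨F⟩ := exists_frame (A := A) x
    have hs0 : s = 0 := by
      have h := congrArg (ev (eps k A)) (hid _ (psiT_mem F hlin hs))
      have hcom : ∀ φ : MvPolynomial ι A, ev (eps k A) (MvPolynomial.aeval e φ) =
          MvPolynomial.aeval (fun i => ev (eps k A) (e i)) (ev (eps k A) φ) := by
        intro φ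
        induction φ using MvPolynomial.induction_on with
        | C a => rw [MvPolynomial.aeval_C, MvPolynomial.algebraMap_eq, ← cst_apply (k := k), ev_cst, AlgHom.commutes]
        | add p q hp hq => simp only [map_add, hp, hq]
        | mul_X p i hp =>
          rw [map_mul, map_mul, MvPolynomial.aeval_X, hp, map_mul, map_mul, ← inc_X (k := k) (A := A) i, ev_inc,
            MvPolynomial.aeval_X]
      have hpsi : psi F (eps k A) s = s := by
        show eps k A (aE F) • s - ∑ i, eps k A (cE F s i) • F.φ i = s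
        rw [counit_aE, one_smul, Finset.sum_eq_zero (fun i _ => by rw [cE_eq_zero F hsK, zero_smul]), sub_zero]
      rw [hcom, ev_psiT, hpsi] at h
      have h3 := hcom (inc k A ι s)
      rw [ev_inc, h] at h3
      exact h3.symm.trans ht
    refine hθ (LinearMap.pi_ext fun i r => ?_)
    have hw : w i = 0 := by
      have := congrArg (MvPolynomial.coeff (Finsupp.single i 1)) hs0
      simpa [s, MvPolynomial.coeff_sum, MvPolynomial.coeff_X', Finsupp.single_eq_single_iff] using this
    rw [show Pi.single i r = r • (Pi.single i (1 : k) : ι → k) by rw [← Pi.single_smul, smul_eq_mul, mul_one],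
      map_smul, LinearMap.zero_apply, show θ (Pi.single i 1) = w i from rfl, hw, smul_zero]
  have hfull : ∀ a : ι → k, ∃ D : Derivation k (MvPolynomial ι A) (MvPolynomial ι A), vec D = a := by
    intro a
    have ha : a ∈ N := hN ▸ Submodule.mem_top
    induction ha using Submodule.span_induction with
    | mem b hb => exact hb
    | zero => exact ⟨0, funext fun i => by simp [vec]⟩
    | add p q _ _ hp hq =>
      obtain ⟨D, hD⟩ := hp
      obtain ⟨D', hD'⟩ := hq
      exact ⟨D + D', funext fun i => by simp [vec, ← hD, ← hD']⟩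
    | smul r p _ hp =>
      obtain ⟨D, hD⟩ := hp
      exact ⟨r • D, funext fun i => by simp [vec, ← hD]⟩
  choose D hD using fun j => hfull (Pi.single j 1)
  refine aeval_injective_of_det v D fun h => ?_
  have h1 := congrArg (z0 k A ι) h
  rw [map_zero, AlgHom.map_det] at h1
  have e : (AlgHom.mapMatrix (z0 k A ι)) (Matrix.of fun i j => D j (v i)) = 1 := Matrix.ext fun i j => by
    show vec (D j) i = _
    rw [hD, Matrix.one_apply, Pi.single_apply]
  rw [e, Matrix.det_one] at h1
  exact one_ne_zero h1

end Groth.Agent.LunaNhd
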