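import Groth.Agent.LunaNhdLib.Ambient
import Groth.Agent.LunaNhdLib.Generic
import Mathlib

/-!
# Tangent spaces of an orbit in a linear representation
-/

set_option autoImplicit false
set_option backward.isDefEq.respectTransparency false
set_option backward.isDefEq.respectTransparency.types false

noncomputable section

universe u

open TensorProduct WithConv

namespace Groth.Agent.LunaNhd

open Groth.Agent.Comodule Groth.Agent.EqZMT Groth.Agent.EtInv

variable {k : Type u} [Field k] [IsAlgClosed k] [CharZero k] {A : Type u} [CommRing A] [IsDomain A]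
  [HopfAlgebra k A] [Algebra.FiniteType k A]
variable {ι : Type u} [Finite ι] [HopfRep.Comod k A (MvPolynomial ι k)] [GLin.IsCoactAlg k A (MvPolynomial ι k)]

variable (k A) in
/-- The identity of the group. -/
abbrev eps : A →ₐ[k] k := Bialgebra.counitAlgHom k A

variable (k ι) in
/-- The linear forms. -/
abbrev Lin : Submodule k (MvPolynomial ι k) :=
  Submodule.span k (Set.range (MvPolynomial.X : ι → MvPolynomial ι k))

instance finite_lin : Module.Finite k (Lin k ι) :=
  Module.Finite.span_of_finite k (Set.finite_range _)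

variable (k A ι) in
/-- The action is linear. -/
def Linear : Prop := ∀ (g : A →ₐ[k] k) (s : MvPolynomial ι k), s ∈ Lin k ι → transl k A g s ∈ Lin k ι

variable (x : MvPolynomial ι k →ₐ[k] k)

/-- The orbit morphism, as a map to the group. -/
abbrev orb : MvPolynomial ι k →ₐ[k] A := GLin.orbitHom k A x

/-- The linear forms with differential zero along the orbit, at the point moved by `g`. -/
def K (g : A →ₐ[k] k) : Submodule k (MvPolynomial ι k) :=
  Lin k ι ⊓ Submodule.comap ((LinearMap.id - Algebra.linearMap k A ∘ₗ g.toLinearMap) ∘ₗ (orb (A := A) x).toLinearMap)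
    ((mI g ^ 2).restrictScalars k)

omit [IsAlgClosed k] [CharZero k] [IsDomain A] [Algebra.FiniteType k A] [Finite ι] in
theorem mem_K {g : A →ₐ[k] k} {s : MvPolynomial ι k} :
    s ∈ K x g ↔ s ∈ Lin k ι ∧ orb x s - algebraMap k A (g (orb x s)) ∈ mI g ^ 2 := Iff.rfl

omit [IsDomain A] [Finite ι] in
theorem mem_K_iff {g : A →ₐ[k] k} {s : MvPolynomial ι k} :
    s ∈ K x g ↔ s ∈ Lin k ι ∧ ∀ ξ : A →ₗ[k] k, IsPD ξ → g (dact ξ (orb x s)) = 0 := by
  rw [mem_K, sub_mem_sq_iff]
  simp only [apply_dact]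

theorem transl_mem_K (hlin : Linear k A ι) {g h : A →ₐ[k] k} {s : MvPolynomial ι k}
    (hs : s ∈ K x (toConv g * toConv h).ofConv) : transl k A h s ∈ K x g := by
  obtain ⟨h1, h2⟩ := (mem_K x).1 hs
  refine (mem_K x).2 ⟨hlin h s h1, ?_⟩
  have h3 := transl_mem_sq g h h2
  rw [map_sub, AlgHom.commutes, orbit_transl, ← apply_transl, orbit_transl] at h3
  exact h3

omit [IsDomain A] in
theorem toConv_eps : toConv (eps k A) = (1 : WithConv (A →ₐ[k] k)) := by
  ext b; simp [AlgHom.convOne_def]

theorem transl_mem_K_eps (hlin : Linear k A ι) {g : A →ₐ[k] k} {s : MvPolynomial ι k}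
    (hs : s ∈ K x (eps k A)) : transl k A (inv g) s ∈ K x g := by
  refine transl_mem_K x hlin ?_
  rwa [mul_inv', ← toConv_eps, ofConv_toConv]

theorem finrank_K (hlin : Linear k A ι) (g : A →ₐ[k] k) :
    Module.finrank k (K x (eps k A)) ≤ Module.finrank k (K x g) := by
  haveI : Module.Finite k (K x g) := Submodule.finiteDimensional_of_le inf_le_left
  refine LinearMap.finrank_le_finrank_of_injective
    (f := ((transl (R := MvPolynomial ι k) k A (inv g)).toLinearMap.restrict fun s hs => transl_mem_K_eps x hlin hs)) ?_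
  intro s t e
  have e' : transl k A (inv g) (s : MvPolynomial ι k) = transl k A (inv g) (t : MvPolynomial ι k) :=
    congrArg Subtype.val e
  have h := congrArg (transl k A g) e'
  rw [transl_transl_inv, transl_transl_inv] at h
  exact Subtype.ext h

/-- A maximal family of independent tangent directions of the orbit. -/
structure Frame where
  /-- The rank. -/
  r : ℕ
  /-- The linear forms. -/
  φ : Fin r → MvPolynomial ι k
  /-- The point derivations. -/
  ξ : Fin r → (A →ₗ[k] k)
  hφ : ∀ i, φ i ∈ Lin k ι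
  hξ : ∀ j, IsPD (ξ j)
  hdual : ∀ i j, ξ j (orb x (φ i)) = if i = j then 1 else 0
  hker : ∀ s ∈ Lin k ι, (∀ j, ξ j (orb x s) = 0) → s ∈ K x (eps k A)

theorem exists_frame : Nonempty (Frame (A := A) x) := by
  classical
  let m : Ideal A := mI (eps k A)
  let P : Submodule k A := Submodule.span k {(1 : A)} ⊔ (m ^ 2).restrictScalars k
  let κ : Lin k ι →ₗ[k] A ⧸ P := P.mkQ ∘ₗ (orb x).toLinearMap ∘ₗ (Lin k ι).subtype
  let bas := Module.finBasis k (LinearMap.range κ)
  choose f hf using fun i => LinearMap.mem_range.1 (bas i).2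
  choose θ hθ using fun j => LinearMap.exists_extend (bas.coord j)
  have hone : ∀ c : k, P.mkQ (algebraMap k A c) = 0 := fun c => (Submodule.Quotient.mk_eq_zero _).2
    (Submodule.mem_sup_left (Submodule.mem_span_singleton.2 ⟨c, (Algebra.algebraMap_eq_smul_one c).symm⟩))
  have hP : ∀ c ∈ m ^ 2, P.mkQ c = 0 := fun c hc => (Submodule.Quotient.mk_eq_zero _).2 (Submodule.mem_sup_right hc)
  refine ⟨{ r := _, φ := fun i => f i, ξ := fun j => θ j ∘ₗ P.mkQ, hφ := fun i => (f i).2,
            hξ := fun j a b => ?_, hdual := fun i j => ?_, hker := fun s hs h => ?_ }⟩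
  · let a₀ := a - algebraMap k A (eps k A a)
    let b₀ := b - algebraMap k A (eps k A b)
    have ha : a₀ ∈ m := by simp [a₀, m, RingHom.mem_ker]
    have hb : b₀ ∈ m := by simp [b₀, m, RingHom.mem_ker]
    have e : a * b = algebraMap k A (eps k A a * eps k A b) + a₀ * b₀ + (eps k A b • a₀ + eps k A a • b₀) := by
      simp only [a₀, b₀, Algebra.smul_def, map_mul]; ring
    show θ j (P.mkQ (a * b)) = θ j (P.mkQ a) * eps k A b + eps k A a * θ j (P.mkQ b)
    rw [e]
    simp only [map_add, map_smul, hone, hP _ (show a₀ * b₀ ∈ m ^ 2 by rw [pow_two]; exact Ideal.mul_mem_mul ha hb),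
      a₀, b₀, map_sub, sub_zero, map_zero, zero_add, smul_eq_mul]
    ring
  · show θ j (κ (f i)) = _
    rw [hf, show θ j (bas i : A ⧸ P) = bas.coord j (bas i) from LinearMap.congr_fun (hθ j) (bas i),
      Module.Basis.coord_apply, Module.Basis.repr_self, Finsupp.single_apply]
  · refine (mem_K x).2 ⟨hs, ?_⟩
    have h0 : (⟨κ ⟨s, hs⟩, LinearMap.mem_range_self κ _⟩ : LinearMap.range κ) = 0 := by
      refine bas.ext_elem fun j => ?_
      rw [map_zero, Finsupp.zero_apply, ← Module.Basis.coord_apply, ← LinearMap.congr_fun (hθ j)]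
      exact h j
    have h1 : orb x s ∈ P := (Submodule.Quotient.mk_eq_zero _).1 (congrArg Subtype.val h0)
    obtain ⟨c, hc, d, hd, e⟩ := Submodule.mem_sup.1 h1
    obtain ⟨c, rfl⟩ := Submodule.mem_span_singleton.1 hc
    rw [← e]
    have hd0 : eps k A d = 0 := Ideal.pow_le_self two_ne_zero (show d ∈ m ^ 2 from hd)
    rw [map_add, map_smul, map_one, hd0, add_zero, smul_eq_mul, mul_one, Algebra.algebraMap_eq_smul_one,
      add_sub_cancel_left]
    exact hd

variable {x} (F : Frame (A := A) x)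

/-- The matrix of the frame along the orbit. -/
def Mmat : Matrix (Fin F.r) (Fin F.r) A := Matrix.of fun i j => orb x (dact (F.ξ j) (F.φ i))

/-- Its determinant. -/
def aE : A := (Mmat F).det

/-- The coefficients. -/
def cE (s : MvPolynomial ι k) : Fin F.r → A :=
  Matrix.vecMul (fun j => orb x (dact (F.ξ j) s)) (Mmat F).adjugate

/-- The corrected form at the point `g`. -/
def psi (g : A →ₐ[k] k) : MvPolynomial ι k →ₗ[k] MvPolynomial ι k where
  toFun s := g (aE F) • s - ∑ i, g (cE F s i) • F.φ i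
  map_add' s t := by
    simp only [cE, Matrix.vecMul, dotProduct, map_add, add_mul, Finset.sum_add_distrib, add_smul, smul_add]
    abel
  map_smul' c s := by
    simp only [cE, Matrix.vecMul, dotProduct, map_smul, RingHom.id_apply, smul_mul_assoc, ← Finset.smul_sum,
      smul_sub, smul_smul, smul_eq_mul, mul_comm c]
    simp only [← smul_smul, smul_comm _ c, Finset.smul_sum]

theorem apply_entry (g : A →ₐ[k] k) (ξ : A →ₗ[k] k) (s : MvPolynomial ι k) :
    g (orb x (dact ξ s)) = g (dact ξ (orb x s)) := by rw [orbit_dact]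

theorem counit_aE : eps k A (aE F) = 1 := by
  rw [aE, AlgHom.map_det]
  have e : (AlgHom.mapMatrix (eps k A)) (Mmat F) = 1 := by
    refine Matrix.ext fun i j => ?_
    rw [AlgHom.mapMatrix_apply, Matrix.map_apply, Mmat, Matrix.of_apply, apply_entry, apply_dact, Matrix.one_apply,
      ← F.hdual i j]
    refine congrArg (F.ξ j) (eq_of_forall_pt (k := k) fun q => ?_)
    rw [apply_lT, toConv_eps, one_mul]
  rw [e, Matrix.det_one]

theorem aE_ne_zero : aE F ≠ 0 := fun h => by
  have := counit_aE F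
  rw [h, map_zero] at this
  exact zero_ne_one this

theorem psi_mem_Lin {g : A →ₐ[k] k} {s : MvPolynomial ι k} (hs : s ∈ Lin k ι) : psi F g s ∈ Lin k ι :=
  sub_mem (Submodule.smul_mem _ _ hs) (Submodule.sum_mem _ fun i _ => Submodule.smul_mem _ _ (F.hφ i))

theorem sum_cE (s : MvPolynomial ι k) (j : Fin F.r) :
    ∑ i, cE F s i * orb x (dact (F.ξ j) (F.φ i)) = aE F * orb x (dact (F.ξ j) s) := by
  have h : Matrix.vecMul (cE F s) (Mmat F) = aE F • fun j => orb x (dact (F.ξ j) s) := by
    rw [cE, Matrix.vecMul_vecMul, Matrix.adjugate_mul, Matrix.vecMul_smul, Matrix.vecMul_one]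
    rfl
  exact congrFun h j

theorem apply_psi (g : A →ₐ[k] k) (ξ : A →ₗ[k] k) (s : MvPolynomial ι k) :
    g (dact ξ (orb x (psi F g s))) =
      g (aE F * orb x (dact ξ s) - ∑ i, cE F s i * orb x (dact ξ (F.φ i))) := by
  rw [← orbit_dact]
  simp [psi]

/-- The rank is constant along the orbit. -/
theorem psi_mem_K (hlin : Linear k A ι) (g : A →ₐ[k] k) {s : MvPolynomial ι k} (hs : s ∈ Lin k ι) :
    psi F g s ∈ K x g := by
  classical
  refine (mem_K_iff x).2 ⟨psi_mem_Lin F hs, fun ξ hξ => ?_⟩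
  rw [apply_psi]
  suffices h : aE F * orb x (dact ξ s) - ∑ i, cE F s i * orb x (dact ξ (F.φ i)) = 0 by rw [h, map_zero]
  refine mul_left_cancel₀ (aE_ne_zero F) ?_
  rw [mul_zero]
  refine eq_of_forall_pt (k := k) fun q => ?_
  rw [map_zero, map_mul]
  by_cases hq : q (aE F) = 0
  · rw [hq, zero_mul]
  rw [← apply_psi]
  refine mul_eq_zero_of_right _ (((mem_K_iff x).1 ?_).2 ξ hξ)
  let E : Lin k ι →ₗ[k] (Fin F.r → k) :=
    LinearMap.pi fun j => q.toLinearMap ∘ₗ dact (F.ξ j) ∘ₗ (orb x).toLinearMap ∘ₗ (Lin k ι).subtype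
  let E₁ : Lin k ι →ₗ[k] (Fin F.r → k) := LinearMap.pi fun j => F.ξ j ∘ₗ (orb x).toLinearMap ∘ₗ (Lin k ι).subtype
  have hsurjE₁ : Function.Surjective E₁ := fun v => ⟨⟨∑ i, v i • F.φ i,
    Submodule.sum_mem _ fun i _ => Submodule.smul_mem _ _ (F.hφ i)⟩, funext fun j => by
      show F.ξ j (orb x (∑ i, v i • F.φ i)) = v j
      simp [map_sum, F.hdual, Finset.sum_ite_eq']⟩
  let N : Matrix (Fin F.r) (Fin F.r) k := (AlgHom.mapMatrix q) (Mmat F)
  have hN : IsUnit N.det := isUnit_iff_ne_zero.2 (by rw [← AlgHom.map_det]; exact hq)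
  have hsurjE : Function.Surjective E := fun v => ⟨⟨∑ i, Matrix.vecMul v N⁻¹ i • F.φ i,
    Submodule.sum_mem _ fun i _ => Submodule.smul_mem _ _ (F.hφ i)⟩, funext fun j => by
      show q (dact (F.ξ j) (orb x (∑ i, Matrix.vecMul v N⁻¹ i • F.φ i))) = v j
      have h : Matrix.vecMul (Matrix.vecMul v N⁻¹) N j = v j := by
        rw [Matrix.vecMul_vecMul, Matrix.nonsing_inv_mul _ hN, Matrix.vecMul_one]
      rw [← h, map_sum, map_sum, map_sum]
      refine Finset.sum_congr rfl fun i _ => ?_
      rw [map_smul, map_smul, map_smul, ← apply_entry, smul_eq_mul]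
      rfl⟩
  have hmem₁ : ∀ t : Lin k ι, E₁ t = 0 ↔ (t : MvPolynomial ι k) ∈ K x (eps k A) := fun t => by
    refine ⟨fun h => F.hker _ t.2 fun j => congrFun h j, fun h => funext fun j => ?_⟩
    have h1 := ((mem_K_iff x).1 h).2 (F.ξ j) (F.hξ j)
    rw [apply_dact] at h1
    show F.ξ j (orb x t) = 0
    rwa [show lT (eps k A) (orb x (t : MvPolynomial ι k)) = orb x t from
      eq_of_forall_pt (k := k) fun p => by rw [apply_lT, toConv_eps, one_mul]] at h1
  have hle : (K x q).comap (Lin k ι).subtype ≤ LinearMap.ker E := fun t ht =>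
    funext fun j => ((mem_K_iff x).1 ht).2 (F.ξ j) (F.hξ j)
  have hfr : ∀ g' : A →ₐ[k] k, Module.finrank k ((K x g').comap (Lin k ι).subtype) = Module.finrank k (K x g') := fun g' =>
    (Submodule.comapSubtypeEquivOfLe (inf_le_left : K x g' ≤ Lin k ι)).finrank_eq
  have hker₁ : LinearMap.ker E₁ = (K x (eps k A)).comap (Lin k ι).subtype := Submodule.ext fun t => hmem₁ t
  have h1 := LinearMap.finrank_range_add_finrank_ker E₁
  have h2 := LinearMap.finrank_range_add_finrank_ker E
  rw [LinearMap.range_eq_top.2 hsurjE₁, hker₁, hfr] at h1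
  rw [LinearMap.range_eq_top.2 hsurjE] at h2
  have heq : (K x q).comap (Lin k ι).subtype = LinearMap.ker E := Submodule.eq_of_le_of_finrank_le hle (by
    rw [hfr]; have := finrank_K x hlin q; omega)
  have hz : (⟨psi F q s, psi_mem_Lin F hs⟩ : Lin k ι) ∈ LinearMap.ker E := funext fun j => by
    show q (dact (F.ξ j) (orb x (psi F q s))) = 0
    rw [apply_psi, sum_cE, sub_self, map_zero]
  rw [← heq] at hz
  exact hz

theorem cE_eq_zero {g : A →ₐ[k] k} {s : MvPolynomial ι k} (hs : s ∈ K x g) (i : Fin F.r) :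
    g (cE F s i) = 0 := by
  simp only [cE, Matrix.vecMul, dotProduct, map_sum, map_mul]
  refine Finset.sum_eq_zero fun j _ => mul_eq_zero_of_left ?_ _
  rw [apply_entry]
  exact ((mem_K_iff x).1 hs).2 (F.ξ j) (F.hξ j)

/-! ### The cotangent spaces of the orbit -/

variable (x) (A)

/-- The coordinate ring of the orbit. -/
abbrev O : Subalgebra k A := (orb (A := A) x).range

/-- The orbit morphism onto the orbit. -/
abbrev orbO : MvPolynomial ι k →ₐ[k] O A x := (orb x).rangeRestrict

/-- The ideal of a point of the orbit. -/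
abbrev mO (g : A →ₐ[k] k) : Ideal (O A x) := RingHom.ker (g.comp (O A x).val)

variable {x} {A}

set_option maxHeartbeats 1000000 in
/-- Along the orbit the relations of the frame hold generically in the module of differentials. -/
theorem exists_generic (hlin : Linear k A ι) (i₀ : ι) :
    ∃ b : O A x, b ≠ 0 ∧ ∀ g : A →ₐ[k] k, g (b : A) ≠ 0 →
      orbO A x (psi F g (MvPolynomial.X i₀)) - algebraMap k _ (g (orb x (psi F g (MvPolynomial.X i₀)))) ∈ mO A x g ^ 2 := by
  classical
  have haE : aE F ∈ O A x := by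
    rw [aE, Matrix.det_apply]
    exact sum_mem fun σ _ => zsmul_mem (prod_mem fun i _ => show Mmat F (σ i) i ∈ O A x from ⟨_, rfl⟩) _
  have hcE : ∀ i, cE F (MvPolynomial.X i₀) i ∈ O A x := fun i => by
    simp only [cE, Matrix.vecMul, dotProduct]
    refine sum_mem fun j _ => mul_mem ⟨_, rfl⟩ ?_
    rw [Matrix.adjugate_apply, Matrix.det_apply]
    refine sum_mem fun σ _ => zsmul_mem (prod_mem fun i' _ => ?_) _
    by_cases h : σ i' = i
    · rw [h, Matrix.updateRow_self, Pi.single_apply]
      split_ifs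
      exacts [one_mem _, zero_mem _]
    · rw [Matrix.updateRow_ne h]; exact ⟨_, rfl⟩
  let a : O A x := ⟨aE F, haE⟩
  let c : Fin F.r → O A x := fun i => ⟨_, hcE i⟩
  let η : Ω[O A x⁄k] := a • KaehlerDifferential.D k _ (orbO A x (MvPolynomial.X i₀)) -
    ∑ i, c i • KaehlerDifferential.D k _ (orbO A x (F.φ i))
  obtain ⟨b, hb, hbη⟩ := exists_smul_eq_zero (O A x) η fun D => by
    simp only [η, map_sub, map_sum, map_smul, Derivation.liftKaehlerDifferential_comp_D, Algebra.smul_def,
      smul_eq_mul]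
    show aE F * D (orb x (MvPolynomial.X i₀)) - ∑ i, cE F (MvPolynomial.X i₀) i * D (orb x (F.φ i)) = 0
    refine eq_of_forall_pt (k := k) fun g => ?_
    rw [map_zero]
    let ξ : A →ₗ[k] k := g.toLinearMap ∘ₗ D.toLinearMap ∘ₗ (lT (inv g)).toLinearMap
    have hξ : IsPD ξ := fun p q => by
      show g (D (lT (inv g) (p * q))) = _
      rw [map_mul, Derivation.leibniz, map_add, smul_eq_mul, smul_eq_mul, map_mul, map_mul, apply_lT_inv, apply_lT_inv]
      show _ = g (D (lT (inv g) p)) * _ + _ * g (D (lT (inv g) q))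
      ring
    have hval : ∀ t, g (D t) = g (dact ξ t) := fun t => by
      rw [apply_dact]
      show _ = g (D (lT (inv g) (lT g t)))
      rw [lT_inv]
    have h := ((mem_K_iff x).1 (psi_mem_K F hlin g
      (Submodule.subset_span ⟨i₀, rfl⟩ : (MvPolynomial.X i₀ : MvPolynomial ι k) ∈ Lin k ι))).2 ξ hξ
    rw [apply_psi] at h
    simp only [map_sub, map_sum, map_mul, apply_entry, ← hval] at h ⊢
    exact h
  refine ⟨b, hb, fun g hg => ?_⟩
  let gO : O A x →ₐ[k] k := g.comp (O A x).val
  by_contra hn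
  obtain ⟨θ, hθ, hθ0⟩ := Submodule.exists_dual_map_eq_bot_of_notMem
    (p := (mO A x g ^ 2).restrictScalars k) hn inferInstance
  have hθm : ∀ z ∈ mO A x g ^ 2, θ z = 0 := fun z hz =>
    (Submodule.mem_bot k).1 (hθ0 ▸ Submodule.mem_map_of_mem (f := θ) hz)
  letI : Module (O A x) k := Module.compHom k gO.toRingHom
  have hsm : ∀ (o : O A x) (r : k), o • r = g (o : A) * r := fun o r => rfl
  haveI : IsScalarTower k (O A x) k := ⟨fun r o t => by
    simp only [hsm, Subalgebra.coe_smul, map_smul, smul_eq_mul, mul_assoc]⟩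
  let θ' : O A x →ₗ[k] k := θ ∘ₗ (LinearMap.id - Algebra.linearMap k _ ∘ₗ gO.toLinearMap)
  have hθ' : ∀ z, θ' z = θ (z - algebraMap k _ (g (z : A))) := fun z => rfl
  have hmem : ∀ z : O A x, z - algebraMap k _ (g (z : A)) ∈ mO A x g := fun z => by simp [RingHom.mem_ker]
  let Dθ : Derivation k (O A x) k := Derivation.mk' θ' fun p q => by
    rw [hsm, hsm, hθ', hθ', hθ']
    have e : p * q - algebraMap k _ (g ((p * q : O A x) : A)) =
        (p - algebraMap k _ (g (p : A))) * (q - algebraMap k _ (g (q : A))) +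
          (g (p : A) • (q - algebraMap k _ (g (q : A))) + g (q : A) • (p - algebraMap k _ (g (p : A)))) := by
      rw [MulMemClass.coe_mul, map_mul, map_mul, Algebra.smul_def, Algebra.smul_def]; ring
    rw [e, map_add, map_add, map_smul, map_smul, hθm _ (by rw [pow_two]; exact Ideal.mul_mem_mul (hmem p) (hmem q)),
      zero_add]
    rfl
  have h0 := congrArg Dθ.liftKaehlerDifferential hbη
  simp only [η, map_zero, map_smul, map_sub, map_sum, Derivation.liftKaehlerDifferential_comp_D,
    hsm] at h0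
  refine hθ ?_
  have h1 := (mul_eq_zero.1 h0).resolve_left hg
  rw [← h1]
  show θ' (orbO A x (psi F g (MvPolynomial.X i₀))) = _
  simp only [psi, LinearMap.coe_mk, AddHom.coe_mk, map_sub, map_sum, map_smul, smul_eq_mul]
  rfl

/-- Translations move the squares of the ideals of the points of the orbit. -/
theorem transl_sq_orbit (x : MvPolynomial ι k →ₐ[k] k) (g : A →ₐ[k] k) (s : MvPolynomial ι k)
    (h1 : orbO A x (transl k A (inv g) s) - algebraMap k _ (g (orb x (transl k A (inv g) s))) ∈ mO A x g ^ 2) :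
    orbO A x s - algebraMap k _ (x s) ∈ mO A x (eps k A) ^ 2 := by
  have hσmem : ∀ o : O A x, transl k A g (o : A) ∈ O A x := by
    rintro ⟨_, t, rfl⟩
    exact ⟨transl k A g t, (orbit_transl x g t).symm⟩
  let σ : O A x →ₐ[k] O A x := ((transl k A g).comp (O A x).val).codRestrict _ hσmem
  have hσval : ∀ o, ((σ o : O A x) : A) = transl k A g (o : A) := fun o => rfl
  have hσ : (mO A x g).map σ.toRingHom ≤ mO A x (eps k A) := Ideal.map_le_iff_le_comap.2 fun o ho => by
    show eps k A ((σ o : O A x) : A) = 0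
    rw [hσval, Bialgebra.counitAlgHom_apply, counit_transl]
    exact ho
  have h3 := Ideal.mem_map_of_mem σ.toRingHom h1
  rw [Ideal.map_pow] at h3
  have h4 := Ideal.pow_right_mono hσ 2 h3
  have e1 : σ (orbO A x (transl k A (inv g) s)) = orbO A x s := Subtype.ext (by
    rw [hσval]
    show transl k A g (orb x (transl k A (inv g) s)) = orb x s
    rw [orbit_transl, transl_transl_inv])
  rw [AlgHom.toRingHom_eq_coe, RingHom.coe_coe, map_sub, AlgHom.commutes, e1, pt_orbit, transl_transl_inv] at h4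
  exact h4

/-- The orbit has the expected cotangent space at the base point. -/
theorem mem_sq_of_mem_K (hlin : Linear k A ι) {s : MvPolynomial ι k} (hs : s ∈ K x (eps k A)) :
    orbO A x s - algebraMap k _ (x s) ∈ mO A x (eps k A) ^ 2 := by
  classical
  cases nonempty_fintype ι
  obtain ⟨F⟩ := exists_frame (A := A) x
  choose b hb hbmem using exists_generic F hlin
  have hB : aE F * ∏ i, (b i : A) ≠ 0 :=
    mul_ne_zero (aE_ne_zero F) (Finset.prod_ne_zero_iff.2 fun i _ h => hb i (Subtype.ext h))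
  obtain ⟨g, hg⟩ := OrbitFlat.exists_point_ne_zero (k := k) hB
  rw [map_mul, map_prod] at hg
  have hga := left_ne_zero_of_mul hg
  have hgb : ∀ i, g (b i : A) ≠ 0 := fun i => Finset.prod_ne_zero_iff.1 (right_ne_zero_of_mul hg) i (Finset.mem_univ i)
  have key : ∀ (W : Submodule k (MvPolynomial ι k)) (ω : MvPolynomial ι k →ₗ[k] O A x),
      W = Lin k ι → (∀ i, ω (psi F g (MvPolynomial.X i)) ∈ mO A x g ^ 2) → ∀ v ∈ W, ω (psi F g v) ∈ mO A x g ^ 2 := by
    intro W ω hW hω v hv
    subst hW
    induction hv using Submodule.span_induction with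
    | mem v hv => obtain ⟨i, rfl⟩ := hv; exact hω i
    | zero => rw [map_zero, map_zero]; exact zero_mem _
    | add p q _ _ hp hq => rw [map_add, map_add]; exact add_mem hp hq
    | smul r p _ hp => rw [map_smul, map_smul]; exact Submodule.smul_of_tower_mem _ r hp
  let ω : MvPolynomial ι k →ₗ[k] O A x :=
    (orbO A x).toLinearMap - Algebra.linearMap k (O A x) ∘ₗ g.toLinearMap ∘ₗ (orb x).toLinearMap
  have hω : ∀ v, ω v = orbO A x v - algebraMap k (O A x) (g (orb x v)) := fun v => rfl
  have hall : ∀ v ∈ Lin k ι, ω (psi F g v) ∈ mO A x g ^ 2 :=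
    key _ ω rfl fun i => by rw [hω]; exact hbmem i g (hgb i)
  clear key
  let u := transl k A (inv g) s
  have hu : u ∈ K x g := transl_mem_K_eps x hlin hs
  have hpu : psi F g u = g (aE F) • u := by
    show g (aE F) • u - ∑ i, g (cE F u i) • F.φ i = _
    rw [Finset.sum_eq_zero (fun i _ => by rw [cE_eq_zero F hu, zero_smul]), sub_zero]
  have h1 : ω u ∈ mO A x g ^ 2 := by
    have := hall u ((mem_K x).1 hu).1
    rw [hpu, map_smul] at this
    have h2 := Submodule.smul_of_tower_mem (mO A x g ^ 2) (g (aE F))⁻¹ this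
    rwa [smul_smul, inv_mul_cancel₀ hga, one_smul] at h2
  rw [hω] at h1
  exact transl_sq_orbit x g s h1

end Groth.Agent.LunaNhd
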